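import Cfsg.Agent.Lib.MTwentyFour.Local.Seven
import Cfsg.Agent.Lib.MTwentyFour.Degrees
import Cfsg.Agent.Lib.MTwentyFour.Index

/-!
A simple group of order 244823040 with the principal families of M24 at 5 and 7 is M24.
-/

set_option autoImplicit false
set_option linter.style.haveILetI false
set_option linter.unusedSectionVars false

namespace Cfsg.Lib.MTwentyFour.Local

open Cfsg Cfsg.Lib Cfsg.Lib.Block Cfsg.Lib.MTwentyFour.Eleven
open Cfsg.Lib.MTwentyFour.Search (ord24)
open scoped ComplexConjugate Classical

universe u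

noncomputable local instance (priority := high) fintypeSubgroupAssembly {A : Type u}
    [Group A] [Fintype A] (H : Subgroup A) : Fintype H := Fintype.ofFinite H

local notation "C[" P "]" => Subgroup.centralizer (SetLike.coe P)

variable {G : Type u} [Group G] [Fintype G] [IsSimpleGroup G]

/-- A self-centralizing Sylow subgroup of prime order given by a generator. -/
theorem local_of_generator {p e : ℕ} [Fact p.Prime] (hd : p ∣ Nat.card G) (hsq : ¬ p * p ∣ Nat.card G)
    (hloc : ∀ P : Sylow p G, Nat.card C[(P : Subgroup G)] = p ∧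
      (C[(P : Subgroup G)]).relIndex (Subgroup.normalizer ((P : Subgroup G) : Set G)) = e)
    {y : G} (hy : orderOf y = p) :
    Subgroup.centralizer ({y} : Set G) = Subgroup.zpowers y ∧
      Nat.card (Subgroup.normalizer ((Subgroup.zpowers y : Subgroup G) : Set G)) = e * p := by
  obtain ⟨P, hP, hyP, hy1⟩ := exists_sylow hd hsq hy
  have hz : Subgroup.zpowers y = (P : Subgroup G) := Small.zpowers_eq_of_prime_card hP hyP hy1
  refine ⟨?_, ?_⟩
  · rw [centralizer_singleton_eq hP hyP hy1, hz]
    exact (Subgroup.eq_of_le_of_card_ge (le_centralizer_self hP) (le_of_eq (by rw [(hloc P).1, hP]))).symm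
  · rw [hz, card_normalizer hP (c := 1) ((hloc P).1.trans (mul_one p).symm) (hloc P).2, mul_one]

/-- Recognition from the families at 5 and 7. -/
theorem iso_of_fams [Fact (Nat.Prime 5)] [Fact (Nat.Prime 7)] (X : Ctx G) (F : Fams G) :
    Nonempty (G ≃* Cfsg.M24) := by
  haveI : Fact (Nat.Prime 11) := ⟨by norm_num⟩
  haveI : Fact (Nat.Prime 23) := ⟨by norm_num⟩
  have hcard := card24 X
  obtain ⟨P₂₃⟩ : Nonempty (Sylow 23 G) := inferInstance
  obtain ⟨P₁₁⟩ : Nonempty (Sylow 11 G) := inferInstance
  obtain ⟨χ, hχ, huniq⟩ := exists_unique_degree hcard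
    P₂₃ (local_twentyThree hcard P₂₃).1 (local_twentyThree hcard P₂₃).2
    P₁₁ (local_eleven hcard P₁₁).1 (local_eleven hcard P₁₁).2
    F.P (card_cent_seven X F) F.S7.relIndex_eq (seven_quotient X F)
    F.Q (card_cent_five X F) F.S5.relIndex_eq (five_quotient X F).1 (five_quotient X F).2
  have h23 := local_of_generator (G := G) (p := 23) (e := 11) (by rw [hcard]; norm_num)
    (by rw [hcard]; norm_num) (local_twentyThree hcard) X.order
  exact iso_of_degree hcard X.order h23.1 (h23.2.trans (by norm_num))
    (fun y hy => by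
      have h := local_of_generator (G := G) (p := 11) (e := 10) (by rw [hcard]; norm_num)
        (by rw [hcard]; norm_num) (local_eleven hcard) hy
      exact ⟨h.1, h.2.trans (by norm_num)⟩)
    hχ huniq

end Cfsg.Lib.MTwentyFour.Local
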