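import Cfsg.Agent.Lib.MTwentyFour.Local.Values

/-!
The projection of the column of an involution on the columns of elements of orders 23 and 11.
-/

set_option autoImplicit false
set_option linter.style.haveILetI false
set_option linter.unusedSectionVars false

namespace Cfsg.Lib.MTwentyFour.Local

open Cfsg Cfsg.Lib Cfsg.Lib.Block Cfsg.Lib.MTwentyFour.Eleven
open Cfsg.Lib.MTwentyFour.Search (ord24 isExc w23 v11 cnt23)
open scoped ComplexConjugate Classical

universe u

noncomputable local instance (priority := high) fintypeSubgroupBessel {A : Type u}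
    [Group A] [Fintype A] (H : Subgroup A) : Fintype H := Fintype.ofFinite H

local notation "C[" P "]" => Subgroup.centralizer (SetLike.coe P)

variable {G : Type u} [Group G] [Fintype G] [IsSimpleGroup G] (X : Ctx G) {v : G} (hv : orderOf v = 2)
include X hv

/-- The squared distance of the column of an involution from the difference of the two columns. -/
theorem sum_dev :
    ∑ χ : IrrCharacter G, (MTwentyTwo.intVal v χ - 10 * (w23 (dg χ) - v11 (dg χ))) *
        (MTwentyTwo.intVal v χ - 10 * (w23 (dg χ) - v11 (dg χ))) =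
      (Nat.card (Subgroup.centralizer ({v} : Set G)) : ℤ) + 5700 := by
  haveI : Fact (Nat.Prime 23) := ⟨by norm_num⟩
  haveI : Fact (Nat.Prime 11) := ⟨by norm_num⟩
  obtain ⟨P, hP, hxP, hx1⟩ := exists_sylow (q := 23) (X.hcard ▸ by norm_num) (X.hcard ▸ by norm_num) X.order
  obtain ⟨R⟩ : Nonempty (Sylow 11 G) := inferInstance
  have hR : Nat.card (R : Subgroup G) = 11 :=
    Order175560.sylow_card_eq (X.hcard ▸ by norm_num) (X.hcard ▸ by norm_num) R
  obtain ⟨⟨y, hyR⟩, hyo⟩ := exists_prime_orderOf_dvd_card' (G := (R : Subgroup G)) 11 (by rw [hR])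
  rw [Subgroup.orderOf_mk] at hyo
  obtain ⟨hy, hn11, -⟩ := column_eleven R
    (by rw [card24 X]; exact factorization_eq (r := 11) (k := 1) (m := 22256640) (by norm_num) (by norm_num) (by norm_num))
    hR (local_eleven (card24 X) R).1 (local_eleven (card24 X) R).2 hyR hyo
  have hxC : Nat.card (Subgroup.centralizer ({X.x} : Set G)) = 23 := by
    rw [centralizer_singleton_eq hP hxP hx1]; exact (local_twentyThree (card24 X) P).1
  obtain ⟨⟨ψ₁, ψ₂, hexc⟩, hn23, hres⟩ := column_big P
    (by rw [card24 X]; exact factorization_eq (r := 23) (k := 1) (m := 10644480) (by norm_num) (by norm_num) (by norm_num))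
    hP (local_twentyThree (card24 X) P).1 (local_twentyThree (card24 X) P).2 hxP X.order hxC
  have hord : ∀ {a b : G}, orderOf a ≠ orderOf b → ¬ IsConj a b := fun h hc => by
    obtain ⟨c, rfl⟩ := isConj_iff.1 hc
    exact h (orderOf_conj' c _).symm
  set w : IrrCharacter G → ℤ := fun χ => w23 (dg χ) with hw
  -- the sum over all characters of a real column against the column of order 23
  have hxcol : ∀ (g : G) (f : IrrCharacter G → ℤ), ¬ IsConj g X.x →
      (∀ χ : IrrCharacter G, (χ : G → ℂ) g = (f χ : ℂ)) → ∑ χ : IrrCharacter G, f χ * w χ = 0 := by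
    intro g f hg hf
    have hc := Char.column_orthogonality g X.x
    rw [if_neg hg] at hc
    have h0 := congrArg conj hc
    rw [map_sum, map_zero, Finset.sum_congr rfl (g := fun χ : IrrCharacter G => (f χ : ℂ) * (χ : G → ℂ) X.x)
      fun χ _ => by rw [map_mul, Complex.conj_conj, hf, map_intCast]] at h0
    have hne := hexc.ne
    have hsplit : ∀ φ : IrrCharacter G → ℂ, ∑ χ : IrrCharacter G, φ χ =
        φ ψ₁ + (φ ψ₂ + ∑ χ ∈ (Finset.univ.erase ψ₁).erase ψ₂, φ χ) := fun φ => by
      rw [← Finset.add_sum_erase _ _ (Finset.mem_univ ψ₁),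
        ← Finset.add_sum_erase _ _ (Finset.mem_erase.2 ⟨hne.symm, Finset.mem_univ ψ₂⟩)]
    set n : ℤ := ∑ χ ∈ (Finset.univ.erase ψ₁).erase ψ₂, f χ * w χ with hn
    have hrest : ∑ χ ∈ (Finset.univ.erase ψ₁).erase ψ₂, (f χ : ℂ) * (2 * (χ : G → ℂ) X.x) = (n : ℂ) := by
      rw [hn, Int.cast_sum]
      refine Finset.sum_congr rfl fun χ hχ => ?_
      simp only [Finset.mem_erase] at hχ
      rw [Int.cast_mul, hexc.other χ hχ.2.1 hχ.1]
    have h2 : 2 * ((f ψ₁ : ℂ) * (ψ₁ : G → ℂ) X.x) + 2 * ((f ψ₂ : ℂ) * (ψ₂ : G → ℂ) X.x) + (n : ℂ) = 0 := by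
      rw [← hrest, Finset.sum_congr rfl fun χ _ => mul_left_comm (f χ : ℂ) 2 _, ← Finset.mul_sum]
      rw [hsplit] at h0
      linear_combination 2 * h0
    have heq : f ψ₁ = f ψ₂ := by
      by_contra hne'
      have hd : (f ψ₁ - f ψ₂ : ℤ) ≠ 0 := sub_ne_zero.2 hne'
      set m : ℤ := -n - 2 * f ψ₂ * w ψ₁ with hm
      have h3 : 2 * ((f ψ₁ - f ψ₂ : ℤ) : ℂ) * (ψ₁ : G → ℂ) X.x = (m : ℂ) := by
        rw [hm, hw]; push_cast
        linear_combination h2 - 2 * (f ψ₂ : ℂ) * hexc.sum
      have hd' : (2 * ((f ψ₁ - f ψ₂ : ℤ) : ℂ)) ≠ 0 := mul_ne_zero two_ne_zero (Int.cast_ne_zero.2 hd)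
      have e1 : ((((m : ℚ) / (2 * (f ψ₁ - f ψ₂ : ℤ)) : ℚ)) : ℂ) = (ψ₁ : G → ℂ) X.x := by
        push_cast at hd' h3 ⊢
        rw [div_eq_iff hd', ← h3]; ring
      obtain ⟨k, hk⟩ := Char.exists_int_of_isIntegral_rat (q := (m : ℚ) / (2 * (f ψ₁ - f ψ₂ : ℤ))) (by
        rw [e1]; exact ψ₁.2.isCharacter.isIntegral X.x)
      refine hexc.irr₁ (2 * k) ?_
      rw [← e1, hk]
      push_cast
      ring
    have hw12 : w ψ₂ = w ψ₁ := by rw [hw]; simp only [hexc.deg]
    have : ((∑ χ : IrrCharacter G, f χ * w χ : ℤ) : ℂ) = 0 := by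
      rw [Int.cast_sum, hsplit, ← Int.cast_sum, ← hn, hw12, heq]
      push_cast
      rw [heq] at h2
      linear_combination h2 - 2 * (f ψ₂ : ℂ) * hexc.sum
    exact_mod_cast this
  have hv2 : v ^ 2 = 1 := hv ▸ pow_orderOf_eq_one v
  have h1 : ∑ χ : IrrCharacter G, MTwentyTwo.intVal v χ * w χ = 0 :=
    hxcol v _ (hord (by rw [hv, X.order]; norm_num)) fun χ => cast_val X hv χ
  have h2 : ∑ χ : IrrCharacter G, v11 (dg χ) * w χ = 0 :=
    hxcol y _ (hord (by rw [hyo, X.order]; norm_num)) hy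
  have h3 : ∑ χ : IrrCharacter G, MTwentyTwo.intVal v χ * v11 (dg χ) = 0 := by
    have hc := Char.column_orthogonality v y
    rw [if_neg (hord (by rw [hv, hyo]; norm_num))] at hc
    have : ((∑ χ : IrrCharacter G, MTwentyTwo.intVal v χ * v11 (dg χ) : ℤ) : ℂ) = 0 := by
      rw [Int.cast_sum, ← hc]
      exact Finset.sum_congr rfl fun χ _ => by rw [Int.cast_mul, cast_val X hv χ, hy, map_intCast]
    exact_mod_cast this
  have h4 : ∑ χ : IrrCharacter G, v11 (dg χ) * v11 (dg χ) = 11 := by
    have hc := Char.column_orthogonality y y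
    rw [if_pos (IsConj.refl y), centralizer_singleton_eq hR hyR (fun e => by rw [e, orderOf_one] at hyo; omega),
      (local_eleven (card24 X) R).1] at hc
    have : ((∑ χ : IrrCharacter G, v11 (dg χ) * v11 (dg χ) : ℤ) : ℂ) = 11 := by
      rw [Int.cast_sum]
      refine Eq.trans (Finset.sum_congr rfl fun χ _ => ?_) (hc.trans (by norm_num))
      rw [Int.cast_mul, hy, map_intCast]
    exact_mod_cast this
  have h5 : ∑ χ : IrrCharacter G, w χ * w χ = 46 := by
    rw [← Finset.sum_filter_add_sum_filter_not Finset.univ (fun χ : IrrCharacter G => cnt23 (dg χ) = true),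
      Finset.sum_congr rfl (g := fun _ => (4 : ℤ)) fun χ hχ => ?_, Finset.sum_const, hn23,
      ← Finset.sum_subset (s₁ := {ψ₁, ψ₂}) (fun χ hχ => ?_) (fun χ hχ hχ' => ?_), Finset.sum_pair hexc.ne]
    · have h11 := (hexc.iff ψ₁).2 (Or.inl rfl)
      simp only [isExc, Bool.or_eq_true, beq_iff_eq] at h11
      have e : w23 (dg ψ₁) * w23 (dg ψ₁) = 1 := by rcases h11 with h | h <;> simp [w23, h]
      simp only [hw, ← hexc.deg, e]
      norm_num
    · simp only [Finset.mem_filter, Finset.mem_univ, true_and]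
      have h11 := (hexc.iff χ).2 (by simpa using hχ)
      simp [cnt23, h11]
    · simp only [Finset.mem_filter, Finset.mem_univ, true_and] at hχ
      have hne : isExc (dg χ) = false := by
        rw [Bool.eq_false_iff]; intro h; exact hχ' (by simpa using (hexc.iff χ).1 h)
      simp only [cnt23, hne, Bool.not_false, Bool.and_true, Bool.not_eq_true, Bool.not_eq_false', beq_iff_eq] at hχ
      simp [hw, w23, hχ]
    · simp only [Finset.mem_filter, Finset.mem_univ, true_and, cnt23, Bool.and_eq_true, Bool.not_eq_true',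
        beq_eq_false_iff_ne, isExc, Bool.or_eq_false_iff] at hχ
      rcases hres χ with h | h | h | h | h
      · exact absurd h hχ.1
      · simp [hw, w23, h]
      · simp [hw, w23, h]
      · exact absurd h hχ.2.1
      · exact absurd h hχ.2.2
  have h6 := MTwentyTwo.sum_intVal_sq (G := G) hv2
  have e : ∀ χ : IrrCharacter G, (MTwentyTwo.intVal v χ - 10 * (w23 (dg χ) - v11 (dg χ))) *
        (MTwentyTwo.intVal v χ - 10 * (w23 (dg χ) - v11 (dg χ))) =
      MTwentyTwo.intVal v χ * MTwentyTwo.intVal v χ - 20 * (MTwentyTwo.intVal v χ * w χ) +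
        20 * (MTwentyTwo.intVal v χ * v11 (dg χ)) + 100 * (w χ * w χ) -
        200 * (v11 (dg χ) * w χ) + 100 * (v11 (dg χ) * v11 (dg χ)) := fun χ => by simp only [hw]; ring
  rw [Finset.sum_congr rfl fun χ _ => e χ]
  simp only [Finset.sum_add_distrib, Finset.sum_sub_distrib, ← Finset.mul_sum, h1, h2, h3, h4, h5, h6]
  ring

omit hv in
/-- The bound excluding the centralizer order 23040. -/
theorem no_central [Fact (Nat.Prime 5)] [Fact (Nat.Prime 7)] (F : Fams G) {v : G} (hv : orderOf v = 2)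
    (hC : Nat.card (Subgroup.centralizer ({v} : Set G)) = 23040)
    (hrow : rowAt F v = ⟨-16, 15, -30, -84, -96, -29⟩) : False := by
  have h := sum_known F X hv (fun d t => t - 10 * (w23 d - v11 d))
  rw [sum_dev X hv, hC, hrow] at h
  norm_num [w23, v11] at h

end Cfsg.Lib.MTwentyFour.Local
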