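import Cfsg.Agent.Lib.MTwentyFour.Eleven.Checks

/-!
Finite checks on the values of the principal families at 5 and 7 at an involution.
-/

set_option autoImplicit false

namespace Cfsg.Lib.MTwentyFour.Local

open Cfsg.Lib.MTwentyFour.Eleven (dv isq notSq)
open Cfsg.Lib.MTwentyFour.Search (ord24)

/-- The values at an involution with centralizer order `C` congruent to the degree modulo `m`. -/
def vals (m C d : ℕ) : List ℤ :=
  let q := d / Nat.gcd d (ord24 / C)
  let r := isq C / q
  ((List.range (2 * r + 1)).map fun (i : ℕ) => (q : ℤ) * ((i : ℤ) - (r : ℤ))).filter fun v =>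
    (v - (d : ℤ)) % (m : ℤ) == 0

/-- The possible centralizer orders of an involution commuting with an element of order `p`. -/
def cents (p : ℕ) : List ℕ := (dv 967680).filter fun C => C % (2 * p) == 0

/-- The values of the characters of degrees 2024, 1035, 990, 5796, 5544, 1771. -/
structure Row where
  a : ℤ
  b : ℤ
  c : ℤ
  A : ℤ
  B : ℤ
  E : ℤ
deriving DecidableEq

def Row.low (t : Row) : ℤ :=
  1 + t.a * t.a + t.b * t.b + 2 * (t.c * t.c) + t.A * t.A + t.B * t.B + t.E * t.E

/-- The rows allowed by the relations, the conic and the bound. -/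
def rows (m C : ℕ) : List Row :=
  let Es := vals m C 1771
  let cs := vals m C 990
  let As := vals m C 5796
  let Bs := vals m C 5544
  (vals m C 2024).flatMap fun a =>
    ((vals m C 1035).filter fun b =>
      91080 + 45 * (a * a) == 88 * (b * b) + 92 * ((1 + a - b) * (1 + a - b)) && cs.contains (1 + a - b)).flatMap
    fun b => As.flatMap fun A =>
      ((Bs.filter fun B => Es.contains (a + B - 1 - A)).map fun B => Row.mk a b (1 + a - b) A B (a + B - 1 - A)).filter
        fun t => decide (t.low ≤ (C : ℤ))

/-- The numerator of the squared number of inverters over five. -/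
def sqNum (q : ℕ) (t : Row) : ℤ :=
  (q : ℤ) * (ord24 : ℤ) * (127512 + 22 * (t.A * t.A) - 23 * (t.B * t.B) - 63 * (t.a * t.a) + 72 * (t.E * t.E))

/-- The denominator of the squared number of inverters over five. -/
def sqDen (C : ℕ) : ℤ := 5 * ((C : ℤ) * (C : ℤ)) * 127512

/-- The rows allowed by the square condition at 5. -/
def sols (q m C : ℕ) : List Row :=
  (rows m C).filter fun t => sqNum q t % sqDen C == 0 && !notSq (sqNum q t / sqDen C)

/-- The arithmetic excluding a subgroup of order divisible by 35. -/
def noThirtyFive (C : ℕ) : Bool :=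
  !(C % 9 == 0) && (dv C).all fun n => !(n % 7 == 1 && n % 5 == 0) || n % 3 == 0

def fiveTest : Bool :=
  (cents 5).all fun C => (sols 2 20 C).isEmpty && (sols 32 20 C).isEmpty &&
    ((sols 192 20 C).all fun t =>
      !((34560 * (2024 - t.a)) % (64 * (C : ℤ)) == 0) && (!(C % 7 == 0) || noThirtyFive C)) &&
    (sols 12 20 C).all fun t =>
      !((24192 * (2024 - t.a)) % (16 * (C : ℤ)) == 0) && !(C % 7 == 0) &&
        (!(C % 80 == 0 && C / 80 % 5 == 1) || (C == 7680 && sqNum 12 t == 9 * sqDen C)) &&
        (!(C % 240 == 0 && C / 240 % 5 == 1) || (C == 23040 && decide (t = ⟨-16, 15, -30, -84, -96, -29⟩)))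

def sevenTest : Bool :=
  (cents 7).all fun C => !(C % 126 == 0 && C / 126 % 7 == 1) ||
    (sols 12 28 C).all fun t => C == 8064 && sqNum 12 t == 9 * sqDen C

def isqTest : Bool := (dv 967680).all fun C => decide (C < (isq C + 1) * (isq C + 1))

theorem isq_check : isqTest = true := by decide +kernel

theorem five_check : fiveTest = true := by decide +kernel

theorem seven_check : sevenTest = true := by decide +kernel

end Cfsg.Lib.MTwentyFour.Local
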