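import Cfsg.Agent.Lib.MTwentyFour.Eleven.Tools
import Mathlib.GroupTheory.Transfer
import Mathlib.GroupTheory.Sylow

/-!
Pairs with product in the singular elements: an exact count from the principal family, the free
action of a group on such pairs, and the exclusion of subgroups of order divisible by 35.
-/

set_option autoImplicit false
set_option linter.style.haveILetI false
set_option linter.unusedSectionVars false

namespace Cfsg.Lib.MTwentyFour.Local

open Cfsg Cfsg.Lib Cfsg.Lib.Block Cfsg.Lib.MTwentyFour.Eleven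
open scoped ComplexConjugate Classical

universe u

noncomputable local instance (priority := high) fintypeSubgroupCount {A : Type u}
    [Group A] [Fintype A] (H : Subgroup A) : Fintype H := Fintype.ofFinite H

local notation "C[" P "]" => Subgroup.centralizer (SetLike.coe P)

variable {G : Type u} [Group G] [Fintype G]

/-- The members of the class of `v` whose product with `g` is singular for `q`. -/
noncomputable def hits (q : ℕ) (v g : G) : Finset G :=
  (Char.classFinset v).filter fun a => q ∣ orderOf (a * g)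

theorem hits_conj (q : ℕ) (v g x : G) : (hits q v (x * g * x⁻¹)).card = (hits q v g).card := by
  refine Finset.card_nbij' (fun a => x⁻¹ * a * x) (fun a => x * a * x⁻¹) ?_ ?_ ?_ ?_
  · intro a ha
    simp only [hits, Finset.mem_coe, Finset.mem_filter, Char.mem_classFinset] at ha ⊢
    refine ⟨ha.1.trans (isConj_iff.2 ⟨x⁻¹, by group⟩), ?_⟩
    rw [show x⁻¹ * a * x * g = x⁻¹ * (a * (x * g * x⁻¹)) * x⁻¹⁻¹ by group,
      show orderOf (x⁻¹ * (a * (x * g * x⁻¹)) * x⁻¹⁻¹) = orderOf (a * (x * g * x⁻¹)) from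
        (MulAut.conj x⁻¹).orderOf_eq _]
    exact ha.2
  · intro a ha
    simp only [hits, Finset.mem_coe, Finset.mem_filter, Char.mem_classFinset] at ha ⊢
    refine ⟨ha.1.trans (isConj_iff.2 ⟨x, rfl⟩), ?_⟩
    rw [show x * a * x⁻¹ * (x * g * x⁻¹) = x * (a * g) * x⁻¹ by group,
      show orderOf (x * (a * g) * x⁻¹) = orderOf (a * g) from (MulAut.conj x).orderOf_eq _]
    exact ha.2
  · intro a _; group
  · intro a _; group

section Count

variable {q : ℕ} [Fact q.Prime] {Q : Sylow q G} (hQ : Nat.card (Q : Subgroup G) = q)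
include hQ

theorem exists_conj_sing {g : G} (hg : q ∣ orderOf g) : ∃ x : G, x * g * x⁻¹ ∈ sing Q := by
  have hq := (Fact.out : q.Prime)
  obtain ⟨k, hk⟩ := hg
  have hpos : 0 < orderOf g := orderOf_pos g
  have hk0 : k ≠ 0 := fun h => by rw [h, mul_zero] at hk; omega
  have hu : orderOf (g ^ k) = q := by
    rw [orderOf_pow_of_dvd hk0 ⟨q, by rw [hk, mul_comm]⟩, hk,
      Nat.mul_div_cancel _ (Nat.pos_of_ne_zero hk0)]
  obtain ⟨R, hR⟩ := (IsPGroup.of_card (G := ↥(Subgroup.zpowers (g ^ k))) (p := q) (n := 1)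
    (by rw [Nat.card_zpowers, hu, pow_one])).exists_le_sylow
  obtain ⟨x, hx⟩ := MulAction.exists_smul_eq G R Q
  refine ⟨x, mem_sing.2 ⟨?_, ?_⟩⟩
  · have hxu : x * g ^ k * x⁻¹ ∈ (Q : Subgroup G) := by
      rw [← hx, Sylow.coe_subgroup_smul]
      exact Subgroup.smul_mem_pointwise_smul _ (MulAut.conj x) _ (hR (Subgroup.mem_zpowers _))
    have hne : x * g ^ k * x⁻¹ ≠ 1 := fun h => by
      have : g ^ k = 1 := by
        calc g ^ k = x⁻¹ * (x * g ^ k * x⁻¹) * x := by group
          _ = 1 := by rw [h]; group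
      rw [this, orderOf_one] at hu
      exact hq.ne_one hu.symm
    rw [← centralizer_singleton_eq hQ hxu hne]
    refine Subgroup.mem_centralizer_singleton_iff.2 ?_
    rw [← conj_pow]
    exact ((Commute.refl (x * g * x⁻¹)).pow_right k).eq
  · rw [show orderOf (x * g * x⁻¹) = orderOf g from (MulAut.conj x).orderOf_eq g, hk]
    exact dvd_mul_right q k

/-- A class function summed over the singular elements of one centralizer and of the group. -/
theorem sum_singular {M : Type*} [AddCommMonoid M] (F : G → M) (hF : ∀ g x : G, F (x * g * x⁻¹) = F g) :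
    Nat.card G • ∑ h ∈ sing Q, F h =
      Nat.card (Subgroup.normalizer ((Q : Subgroup G) : Set G)) •
        ∑ g ∈ Finset.univ.filter (fun g : G => q ∣ orderOf g), F g := by
  set N := Subgroup.normalizer ((Q : Subgroup G) : Set G)
  have e1 : Nat.card G • ∑ h ∈ sing Q, F h =
      ∑ r ∈ (Finset.univ : Finset G) ×ˢ sing Q, F (r.1 * r.2 * r.1⁻¹) := by
    rw [Finset.sum_product, Finset.sum_congr rfl fun x _ => Finset.sum_congr rfl fun h _ => hF h x,
      Finset.sum_const, Finset.card_univ, Nat.card_eq_fintype_card]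
  rw [e1, ← Finset.sum_fiberwise_of_maps_to (g := fun r : G × G => r.1 * r.2 * r.1⁻¹)
    (t := Finset.univ.filter (fun g : G => q ∣ orderOf g)), Finset.smul_sum]
  · refine Finset.sum_congr rfl fun g hg => ?_
    rw [Finset.sum_congr rfl (g := fun _ => F g) fun r hr => by rw [(Finset.mem_filter.1 hr).2],
      Finset.sum_const]
    congr 1
    obtain ⟨x₀, hx₀⟩ := exists_conj_sing hQ (Finset.mem_filter.1 hg).2
    rw [Nat.card_eq_fintype_card, ← Finset.card_univ]
    refine Finset.card_bij' (fun r hr => (⟨x₀ * r.1, ?_⟩ : N))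
      (fun n _ => (x₀⁻¹ * (n : G), (n : G)⁻¹ * (x₀ * g * x₀⁻¹) * n)) ?_ ?_ ?_ ?_
    · simp only [Finset.mem_filter, Finset.mem_product] at hr
      refine mem_normalizer_of_conj hQ hr.1.2 ?_
      rw [show x₀ * r.1 * r.2 * (x₀ * r.1)⁻¹ = x₀ * (r.1 * r.2 * r.1⁻¹) * x₀⁻¹ by group, hr.2]
      exact hx₀
    · intro r _; exact Finset.mem_univ _
    · intro n _
      refine Finset.mem_filter.2 ⟨Finset.mem_product.2 ⟨Finset.mem_univ _, ?_⟩, by group⟩
      have := conj_mem_sing hQ hx₀ (inv_mem n.2)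
      rwa [inv_inv] at this
    · intro r hr
      have e := (Finset.mem_filter.1 hr).2
      refine Prod.ext (by simp) ?_
      dsimp only
      rw [← e]
      group
    · intro n _
      exact Subtype.ext (by simp)
  · intro r hr
    refine Finset.mem_filter.2 ⟨Finset.mem_univ _, ?_⟩
    rw [show orderOf (r.1 * r.2 * r.1⁻¹) = orderOf r.2 from (MulAut.conj r.1).orderOf_eq r.2]
    exact (mem_sing.1 (Finset.mem_product.1 hr).2).2

variable {e c : ℕ} (S : Small.Shape Q e) (hC : Nat.card C[(Q : Subgroup G)] = q * c)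
include S hC

/-- The principal family as the only contribution to a weighted singular sum. -/
theorem sum_family {v g : G} (hv : ¬ q ∣ orderOf v) (hg : ¬ q ∣ orderOf g) :
    ∑ χ : IrrCharacter G, (χ : G → ℂ) v * (χ : G → ℂ) g * conj (sSum Q χ) / (χ : G → ℂ) 1 =
      (((q - 1) * c : ℕ) : ℂ) *
        ∑ χ ∈ S.Z, (S.σ χ : ℂ) * ((χ : G → ℂ) v * (χ : G → ℂ) g / (χ : G → ℂ) 1) := by
  have hone : ¬ q ∣ orderOf (1 : G) := by rw [orderOf_one]; exact (Fact.out : q.Prime).not_dvd_one
  rw [← Finset.sum_subset (Finset.subset_univ (S.X ∪ S.Y)) fun χ _ hχ => by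
      rw [(sSum_props hQ S hC).2 χ (fun h => hχ (Finset.mem_union_left _ h))
        (fun h => hχ (Finset.mem_union_right _ h)), map_zero, mul_zero, zero_div],
    Finset.sum_union S.disj,
    Finset.sum_congr (rfl : S.Y = S.Y) fun θ' h => by
      rw [S.agree θ' h v hv, S.agree θ' h g hg, S.agree θ' h 1 hone],
    ← Finset.sum_div, ← Finset.mul_sum, ← map_sum, sum_sSum_Y hQ S hC, S.Z_eq,
    Finset.sum_insert S.θ_notMem, mul_add, Finset.mul_sum, map_mul, map_natCast, map_intCast, add_comm]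
  congr 1
  · ring
  · refine Finset.sum_congr rfl fun χ h => ?_
    rw [sSum_X hQ S hC h, map_mul, map_natCast, map_intCast]
    ring

/-- The exact number of members of a class with singular product with a given regular element. -/
theorem hits_count {v g : G} (hv : ¬ q ∣ orderOf v) (hg : ¬ q ∣ orderOf g) :
    ((hits q v g).card : ℂ) * ((e * q : ℕ) : ℂ) *
        (Nat.card (Subgroup.centralizer ({v} : Set G)) : ℂ) =
      (Nat.card G : ℂ) * ((q - 1 : ℕ) : ℂ) *
        ∑ χ ∈ S.Z, (S.σ χ : ℂ) * ((χ : G → ℂ) v * (χ : G → ℂ) g / (χ : G → ℂ) 1) := by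
  set K := Char.classFinset v with hK
  set L := Char.classFinset g with hL
  set F : G → ℕ := fun h => ((K ×ˢ L).filter fun r => r.1 * r.2 = h).card with hF
  have hFc : ∀ h x : G, F (x * h * x⁻¹) = F h := fun h x => by
    refine Finset.card_nbij' (fun r => (x⁻¹ * r.1 * x, x⁻¹ * r.2 * x))
      (fun r => (x * r.1 * x⁻¹, x * r.2 * x⁻¹)) ?_ ?_ ?_ ?_
    · intro r hr
      simp only [hK, hL, Finset.mem_coe, Finset.mem_filter, Finset.mem_product, Char.mem_classFinset] at hr ⊢
      refine ⟨⟨hr.1.1.trans (isConj_iff.2 ⟨x⁻¹, by group⟩), hr.1.2.trans (isConj_iff.2 ⟨x⁻¹, by group⟩)⟩, ?_⟩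
      calc x⁻¹ * r.1 * x * (x⁻¹ * r.2 * x) = x⁻¹ * (r.1 * r.2) * x := by group
        _ = h := by rw [hr.2]; group
    · intro r hr
      simp only [hK, hL, Finset.mem_coe, Finset.mem_filter, Finset.mem_product, Char.mem_classFinset] at hr ⊢
      exact ⟨⟨hr.1.1.trans (isConj_iff.2 ⟨x, rfl⟩), hr.1.2.trans (isConj_iff.2 ⟨x, rfl⟩)⟩, by rw [← hr.2]; group⟩
    · intro r _; simp [mul_assoc]
    · intro r _; simp [mul_assoc]
  have hsum : ∑ h ∈ Finset.univ.filter (fun h : G => q ∣ orderOf h), F h =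
      L.card * (hits q v g).card := by
    rw [Finset.sum_congr rfl (g := fun h => (((K ×ˢ L).filter fun r => q ∣ orderOf (r.1 * r.2)).filter
      fun r => r.1 * r.2 = h).card) fun h hh => ?_, ← Finset.card_eq_sum_card_fiberwise (s := (K ×ˢ L).filter fun r => q ∣ orderOf (r.1 * r.2)) (f := fun r : G × G => r.1 * r.2) (t := Finset.univ.filter fun h : G => q ∣ orderOf h) ?_]
    · rw [Finset.card_eq_sum_ones, Finset.sum_filter, Finset.sum_product_right,
        Finset.sum_congr rfl (g := fun _ => (hits q v g).card) fun b hb => ?_, Finset.sum_const, smul_eq_mul]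
      obtain ⟨x, rfl⟩ := isConj_iff.1 (Char.mem_classFinset.1 hb)
      rw [← hits_conj q v g x, hits, Finset.card_eq_sum_ones (_ : Finset G), Finset.sum_filter]
    · intro r hr
      simp only [Finset.mem_coe, Finset.mem_filter, Finset.mem_univ, true_and] at hr ⊢
      exact hr.2
    · rw [hF, Finset.filter_filter]
      refine congrArg Finset.card (Finset.filter_congr fun r _ => ?_)
      constructor
      · intro e'; exact ⟨e' ▸ (Finset.mem_filter.1 hh).2, e'⟩
      · exact And.right
  have hmain := sum_singular hQ F hFc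
  rw [hsum, smul_eq_mul, smul_eq_mul, card_normalizer hQ hC S.relIndex_eq] at hmain
  have hG : (Nat.card G : ℂ) ≠ 0 := Nat.cast_ne_zero.2 Nat.card_pos.ne'
  have hval : ((∑ h ∈ sing Q, F h : ℕ) : ℂ) = (K.card : ℂ) * (L.card : ℂ) / (Nat.card G : ℂ) *
      ((((q - 1) * c : ℕ) : ℂ) *
        ∑ χ ∈ S.Z, (S.σ χ : ℂ) * ((χ : G → ℂ) v * (χ : G → ℂ) g / (χ : G → ℂ) 1)) := by
    rw [Nat.cast_sum, Finset.sum_congr rfl fun (h : G) _ => Char.card_class_product v g h,
      ← Finset.mul_sum, Finset.sum_comm, ← sum_family hQ S hC hv hg]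
    congr 1
    refine Finset.sum_congr rfl fun χ _ => ?_
    rw [sSum, map_sum, Finset.mul_sum, Finset.sum_div]
  have hcl : (K.card : ℂ) * (Nat.card (Subgroup.centralizer ({v} : Set G)) : ℂ) = (Nat.card G : ℂ) := by
    rw [hK, Char.card_classFinset, ← Nat.cast_mul, mul_comm, Subgroup.card_mul_index]
  have hc0 : (c : ℂ) ≠ 0 := Nat.cast_ne_zero.2 fun h => by
    rw [h, mul_zero] at hC; exact Nat.card_pos.ne' hC
  have hL0 : (L.card : ℂ) ≠ 0 := Nat.cast_ne_zero.2
    (Finset.card_pos.2 ⟨g, Char.mem_classFinset.2 (IsConj.refl g)⟩).ne'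
  have hmain' := congrArg (fun n : ℕ => (n : ℂ)) hmain
  push_cast at hmain'
  rw [← Nat.cast_sum, hval] at hmain'
  push_cast at hmain' ⊢
  generalize (∑ χ ∈ S.Z, (S.σ χ : ℂ) * ((χ : G → ℂ) v * (χ : G → ℂ) g / (χ : G → ℂ) 1)) = T at hmain' ⊢
  field_simp at hmain'
  linear_combination (-(Nat.card (Subgroup.centralizer ({v} : Set G)) : ℂ)) * hmain' +
    ((q - 1 : ℕ) : ℂ) * T * hcl

end Count

/-- A group of elements commuting with no member of an invariant set divides its size. -/
theorem card_dvd_of_free (U : Subgroup G) (T : Finset G) (hinv : ∀ u ∈ U, ∀ a ∈ T, u * a * u⁻¹ ∈ T)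
    (hfree : ∀ u ∈ U, ∀ a ∈ T, Commute u a → u = 1) : Nat.card U ∣ T.card := by
  letI : MulAction U {a // a ∈ T} :=
    { smul := fun u a => ⟨u * a * (u : G)⁻¹, hinv u u.2 a a.2⟩
      one_smul := fun a => Subtype.ext (show ((1 : U) : G) * a * ((1 : U) : G)⁻¹ = a by simp)
      mul_smul := fun u w a => Subtype.ext (show ((u * w : U) : G) * a * ((u * w : U) : G)⁻¹ =
        (u : G) * ((w : G) * a * (w : G)⁻¹) * (u : G)⁻¹ by push_cast; group) }
  have hst : ∀ a : {a // a ∈ T}, MulAction.stabilizer U a = ⊥ := fun a => by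
    refine (Subgroup.eq_bot_iff_forall _).2 fun u hu => Subtype.ext ?_
    have h : (u : G) * a * (u : G)⁻¹ = a := congrArg Subtype.val (MulAction.mem_stabilizer_iff.1 hu)
    exact hfree u u.2 a a.2 (mul_inv_eq_iff_eq_mul.1 h)
  have horb : ∀ ω : Quotient (MulAction.orbitRel U {a // a ∈ T}),
      Nat.card (MulAction.orbit U ω.out) = Nat.card U := fun ω => by
    rw [Nat.card_congr (MulAction.orbitEquivQuotientStabilizer U ω.out), hst]
    exact Nat.card_congr (QuotientGroup.quotientBot).toEquiv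
  have h := Nat.card_congr (MulAction.selfEquivSigmaOrbits U {a // a ∈ T})
  rw [Nat.card_sigma, Finset.sum_congr rfl fun ω _ => horb ω, Finset.sum_const, smul_eq_mul,
    Nat.card_eq_fintype_card, Fintype.card_coe] at h
  exact ⟨_, h.trans (mul_comm _ _)⟩

/-- An involution commuting with a Sylow-type element and with an element of another prime order,
found in a 2-group whose order does not divide a count. -/
theorem exists_common {q : ℕ} [Fact q.Prime] (U : Subgroup G) (hU : IsPGroup 2 U) {v g : G}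
    (hg : ∀ u ∈ U, Commute u g) (hn : ¬ Nat.card U ∣ (hits q v g).card) :
    ∃ j r : G, orderOf j = 2 ∧ Commute j g ∧ orderOf r = q ∧ Commute j r := by
  by_contra hne
  refine hn (card_dvd_of_free U _ (fun u hu a ha => ?_) fun u hu a ha hc => ?_)
  · simp only [hits, Finset.mem_filter, Char.mem_classFinset] at ha ⊢
    refine ⟨ha.1.trans (isConj_iff.2 ⟨u, rfl⟩), ?_⟩
    rw [show u * a * u⁻¹ * g = u * a * u⁻¹ * (u * g * u⁻¹) by rw [(hg u hu).eq, mul_inv_cancel_right],
      show u * a * u⁻¹ * (u * g * u⁻¹) = u * (a * g) * u⁻¹ by group,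
      show orderOf (u * (a * g) * u⁻¹) = orderOf (a * g) from (MulAut.conj u).orderOf_eq _]
    exact ha.2
  · by_contra hu1
    obtain ⟨-, k, hk⟩ := Finset.mem_filter.1 ha
    obtain ⟨n, hn2⟩ := hU ⟨u, hu⟩
    have hd : orderOf u ∣ 2 ^ n := orderOf_dvd_of_pow_eq_one (congrArg Subtype.val hn2)
    obtain ⟨i, -, hi⟩ := (Nat.dvd_prime_pow Nat.prime_two).1 hd
    have hi0 : i ≠ 0 := fun h => hu1 (orderOf_eq_one_iff.1 (by rw [hi, h, pow_zero]))
    have hk0 : k ≠ 0 := fun h => by rw [h, mul_zero] at hk; exact (orderOf_pos (a * g)).ne' hk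
    refine hne ⟨u ^ 2 ^ (i - 1), (a * g) ^ k, ?_, (hg u hu).pow_left _, ?_,
      ((hc.mul_right (hg u hu)).pow_left _).pow_right _⟩
    · rw [orderOf_pow_of_dvd (by positivity) (hi ▸ pow_dvd_pow 2 (Nat.sub_le i 1)), hi,
        Nat.pow_div (Nat.sub_le i 1) two_pos, show i - (i - 1) = 1 by omega, pow_one]
    · rw [orderOf_pow_of_dvd hk0 ⟨q, by rw [hk, mul_comm]⟩, hk, Nat.mul_div_cancel _ (Nat.pos_of_ne_zero hk0)]

/-- No subgroup of order divisible by 35 and not by 9, under arithmetic on its order. -/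
theorem no_thirtyFive [Fact (Nat.Prime 5)] [Fact (Nat.Prime 7)] (P : Sylow 7 G)
    (hP : Nat.card (P : Subgroup G) = 7)
    (he : (C[(P : Subgroup G)]).relIndex (Subgroup.normalizer ((P : Subgroup G) : Set G)) = 3)
    (hN5 : ¬ 5 ∣ Nat.card (Subgroup.normalizer ((P : Subgroup G) : Set G)))
    (hN7 : ∀ Q : Sylow 5 G, ¬ 7 ∣ Nat.card (Subgroup.normalizer ((Q : Subgroup G) : Set G)))
    (hQ : ∀ Q : Sylow 5 G, Nat.card (Q : Subgroup G) = 5)
    (J : Subgroup G) (hPJ : (P : Subgroup G) ≤ J) (h5 : 5 ∣ Nat.card J) (h9 : ¬ 9 ∣ Nat.card J)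
    (harith : ∀ n, n ∣ Nat.card J → n % 7 = 1 → 5 ∣ n → 3 ∣ n) : False := by
  set N := Subgroup.normalizer ((P : Subgroup G) : Set G) with hN
  set P' : Sylow 7 J := P.subtype hPJ with hP'
  have hmap : (Subgroup.normalizer ((P' : Subgroup J) : Set J)).map J.subtype ≤ N := by
    rintro _ ⟨a, ha, rfl⟩
    refine Subgroup.mem_normalizer_fintype fun x hx => ?_
    have := (Subgroup.mem_normalizer_iff.1 ha ⟨x, hPJ hx⟩).1
      (by rw [hP', Sylow.coe_subtype, Subgroup.mem_subgroupOf]; exact hx)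
    rw [hP', Sylow.coe_subtype, Subgroup.mem_subgroupOf] at this
    exact this
  set n := Nat.card (Sylow 7 J) with hn
  have hn1 : n % 7 = 1 := by
    have := card_sylow_modEq_one 7 J
    rwa [Nat.ModEq, Nat.one_mod] at this
  have hni : n = (Subgroup.normalizer ((P' : Subgroup J) : Set J)).index := P'.card_eq_index_normalizer
  have hmul : Nat.card (Subgroup.normalizer ((P' : Subgroup J) : Set J)) * n = Nat.card J := by
    rw [hni]; exact Subgroup.card_mul_index _
  have hNd : Nat.card (Subgroup.normalizer ((P' : Subgroup J) : Set J)) ∣ Nat.card N := by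
    rw [← Subgroup.card_map_of_injective J.subtype_injective]
    exact Subgroup.card_dvd_of_le hmap
  have h5n : 5 ∣ n := ((Nat.Prime.dvd_mul (by norm_num)).1 (hmul ▸ h5)).resolve_left
    fun h => hN5 (h.trans hNd)
  have h3n : 3 ∣ n := harith n (Dvd.intro_left _ hmul) hn1 h5n
  have h3N : ¬ 3 ∣ Nat.card (Subgroup.normalizer ((P' : Subgroup J) : Set J)) := fun h =>
    h9 (hmul ▸ Nat.mul_dvd_mul h h3n)
  have hcen : Subgroup.normalizer ((P' : Subgroup J) : Set J) ≤ Subgroup.centralizer ((P' : Subgroup J) : Set J) := by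
    intro a ha
    set K := (C[(P : Subgroup G)]).subgroupOf N with hK
    haveI : K.Normal := by rw [hK, ← Subgroup.normalizerMonoidHom_ker]; infer_instance
    have hind : K.index = 3 := he
    have h1 : orderOf (QuotientGroup.mk' K ⟨(a : G), hmap ⟨a, ha, rfl⟩⟩) ∣ 3 :=
      hind ▸ (_root_.orderOf_dvd_natCard _)
    have h2 : orderOf (QuotientGroup.mk' K ⟨(a : G), hmap ⟨a, ha, rfl⟩⟩) ∣ orderOf a := by
      refine (orderOf_map_dvd _ _).trans ?_
      rw [← Subgroup.orderOf_coe, ← Subgroup.orderOf_coe a]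
    have h3 : Nat.Coprime 3 (orderOf a) := (Nat.prime_three.coprime_iff_not_dvd).2 fun h =>
      h3N (h.trans (Subgroup.orderOf_dvd_natCard _ ha))
    have h4 := Nat.eq_one_of_dvd_coprimes h3 h1 h2
    rw [orderOf_eq_one_iff, ← MonoidHom.mem_ker, QuotientGroup.ker_mk', hK, Subgroup.mem_subgroupOf] at h4
    refine Subgroup.mem_centralizer_iff.2 fun x hx => Subtype.ext ?_
    rw [SetLike.mem_coe, hP', Sylow.coe_subtype, Subgroup.mem_subgroupOf] at hx
    exact Subgroup.mem_centralizer_iff.1 h4 (x : G) hx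
  set M := (MonoidHom.transferSylow P' hcen).ker with hM
  have hcomp := MonoidHom.ker_transferSylow_isComplement' P' hcen
  have hcardP' : Nat.card (P' : Subgroup J) = 7 := by
    rw [hP', Sylow.coe_subtype, Nat.card_congr (Subgroup.subgroupOfEquivOfLe hPJ).toEquiv, hP]
  have h5M : 5 ∣ Nat.card M := by
    have := hcomp.card_mul
    rw [hcardP'] at this
    exact (Nat.Coprime.dvd_of_dvd_mul_right (by norm_num) (this.symm ▸ h5))
  obtain ⟨R⟩ : Nonempty (Sylow 5 M) := inferInstance
  have hfr := Sylow.normalizer_sup_eq_top R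
  set R' := (R : Subgroup M).map M.subtype with hR'
  set R'' := R'.map J.subtype with hR''
  have hR5 : Nat.card R'' = 5 := by
    obtain ⟨⟨x, hx⟩, hxo⟩ := exists_prime_orderOf_dvd_card' (G := (R : Subgroup M)) 5
      (R.dvd_card_of_dvd_card h5M)
    have hle : IsPGroup 5 R'' := (R.2.map M.subtype).map J.subtype
    obtain ⟨Q, hQR⟩ := hle.exists_le_sylow
    have h1 := Subgroup.card_dvd_of_le hQR
    rw [hQ Q] at h1
    rw [hR'', Subgroup.card_map_of_injective J.subtype_injective, hR',
      Subgroup.card_map_of_injective M.subtype_injective] at h1 ⊢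
    rcases (Nat.dvd_prime (by norm_num)).1 h1 with h | h
    · have := _root_.orderOf_dvd_natCard (⟨x, hx⟩ : (R : Subgroup M))
      rw [hxo, h] at this
      norm_num at this
    · exact h
  obtain ⟨Q, hQR⟩ := (IsPGroup.of_card (G := R'') (p := 5) (n := 1) (by rw [hR5, pow_one])).exists_le_sylow
  have hRQ : R'' = (Q : Subgroup G) := Subgroup.eq_of_le_of_card_ge hQR (by rw [hR5, hQ Q])
  refine hN7 Q ?_
  rw [← hRQ]
  haveI : M.Normal := MonoidHom.normal_ker _
  have hind : M.index = 7 := by rw [← hcardP']; exact hcomp.symm.index_eq_card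
  have h7 : 7 ∣ Nat.card (Subgroup.normalizer (R' : Set J)) := by
    have h := Subgroup.relIndex_sup_right (Subgroup.normalizer (R' : Set J)) M
    rw [hR', hfr, Subgroup.relIndex_top_right, hind] at h
    exact h ▸ Subgroup.relIndex_dvd_card _ _
  rw [← Subgroup.card_map_of_injective J.subtype_injective] at h7
  exact h7.trans (Subgroup.card_dvd_of_le (hR'' ▸ Subgroup.le_normalizer_map _))

end Cfsg.Lib.MTwentyFour.Local
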