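import Cfsg.Agent.Lib.MTwentyFour.Eleven.Local
import Cfsg.Agent.Lib.MTwentyFour.Local.Count
import Cfsg.Agent.Lib.MTwentyFour.Local.Checks

/-!
The principal families at 5 and 7 of a simple group of order 244823040 and their values at an involution.
-/

set_option autoImplicit false
set_option linter.style.haveILetI false
set_option linter.unusedSectionVars false

namespace Cfsg.Lib.MTwentyFour.Local

open Cfsg Cfsg.Lib Cfsg.Lib.Block Cfsg.Lib.MTwentyFour.Eleven
open Cfsg.Lib.MTwentyFour.Search (ord24)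
open scoped ComplexConjugate Classical

universe u

noncomputable local instance (priority := high) fintypeSubgroupFams {A : Type u}
    [Group A] [Fintype A] (H : Subgroup A) : Fintype H := Fintype.ofFinite H

local notation "C[" P "]" => Subgroup.centralizer (SetLike.coe P)

/-- The principal families at 5 and 7. -/
structure Fams (G : Type u) [Group G] [Fintype G] [Fact (Nat.Prime 5)] [Fact (Nat.Prime 7)] where
  /-- a Sylow subgroup of order 5 -/
  Q : Sylow 5 G
  /-- a Sylow subgroup of order 7 -/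
  P : Sylow 7 G
  /-- the cofactor at 5 -/
  c5 : ℕ
  /-- the cofactor at 7 -/
  c7 : ℕ
  hC5 : Nat.card C[(Q : Subgroup G)] = 5 * c5
  hC7 : Nat.card C[(P : Subgroup G)] = 7 * c7
  /-- the family at 5 -/
  S5 : Small.Shape Q 4
  /-- the family at 7 -/
  S7 : Small.Shape P 3
  /-- degree 2024 -/
  χa : IrrCharacter G
  /-- degree 1035 -/
  χb : IrrCharacter G
  /-- degree 990 -/
  χc : IrrCharacter G
  /-- degree 5796 -/
  χA : IrrCharacter G
  /-- degree 5544 -/
  χB : IrrCharacter G
  /-- degree 1771 -/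
  χE : IrrCharacter G
  da : dg χa = 2024
  db : dg χb = 1035
  dc : dg χc = 990
  dA : dg χA = 5796
  dB : dg χB = 5544
  dE : dg χE = 1771
  Z5 : S5.Z = {Small.one' G, χA, χa, χB, χE}
  Z7 : S7.Z = {Small.one' G, χa, χb, χc}
  sA : S5.σ χA = 1
  sa : S5.σ χa = -1
  sB : S5.σ χB = -1
  sE : S5.σ χE = 1
  sa' : S7.σ χa = 1
  sb : S7.σ χb = -1
  sc : S7.σ χc = -1

variable {G : Type u} [Group G] [Fintype G]

theorem orderOf_conj' (x g : G) : orderOf (x * g * x⁻¹) = orderOf g := (MulAut.conj x).orderOf_eq g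

variable [IsSimpleGroup G] (X : Ctx G)
include X

theorem card24 : Nat.card G = 244823040 := X.hcard.trans (by norm_num)

theorem sylow_five [Fact (Nat.Prime 5)] (Q : Sylow 5 G) : Nat.card (Q : Subgroup G) = 5 :=
  Order175560.sylow_card_eq (X.hcard ▸ by norm_num) (X.hcard ▸ by norm_num) Q

theorem sylow_seven [Fact (Nat.Prime 7)] (P : Sylow 7 G) : Nat.card (P : Subgroup G) = 7 :=
  Order175560.sylow_card_eq (X.hcard ▸ by norm_num) (X.hcard ▸ by norm_num) P

/-- The centralizer of an involution has order dividing 967680. -/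
theorem centralizer_dvd {v : G} (hv : orderOf v = 2) :
    Nat.card (Subgroup.centralizer ({v} : Set G)) ∣ 967680 := by
  haveI : Fact (Nat.Prime 11) := ⟨by norm_num⟩
  haveI : Fact (Nat.Prime 23) := ⟨by norm_num⟩
  set C := Nat.card (Subgroup.centralizer ({v} : Set G))
  have hd : C ∣ 967680 * (11 * 23) := (Subgroup.card_subgroup_dvd_card _).trans
    (dvd_of_eq (by rw [card24 X]))
  have h23 : ¬ 23 ∣ C := fun h => by
    obtain ⟨⟨u, hu⟩, huo⟩ := exists_prime_orderOf_dvd_card' (G := Subgroup.centralizer ({v} : Set G)) 23 h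
    rw [Subgroup.orderOf_mk] at huo
    have := X.cent u v huo (Subgroup.mem_centralizer_singleton_iff.1 hu)
    rw [hv] at this
    norm_num at this
  have h11 : ¬ 11 ∣ C := fun h => by
    obtain ⟨⟨u, hu⟩, huo⟩ := exists_prime_orderOf_dvd_card' (G := Subgroup.centralizer ({v} : Set G)) 11 h
    rw [Subgroup.orderOf_mk] at huo
    obtain ⟨R, hR, huR, hu1⟩ := exists_sylow (q := 11) (X.hcard ▸ by norm_num) (X.hcard ▸ by norm_num) huo
    have hvC : v ∈ C[(R : Subgroup G)] := by
      rw [← centralizer_singleton_eq hR huR hu1]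
      exact Subgroup.mem_centralizer_singleton_iff.2 (Subgroup.mem_centralizer_singleton_iff.1 hu).symm
    have := Subgroup.orderOf_dvd_natCard _ hvC
    rw [hv, (local_eleven (card24 X) R).1] at this
    norm_num at this
  have hc : C.Coprime (11 * 23) := Nat.Coprime.mul_right
    ((Nat.Prime.coprime_iff_not_dvd (by norm_num)).2 h11).symm
    ((Nat.Prime.coprime_iff_not_dvd (by norm_num)).2 h23).symm
  exact hc.dvd_of_dvd_mul_right hd

variable {v : G} (hv : orderOf v = 2)
include hv

theorem cast_val (χ : IrrCharacter G) : (χ : G → ℂ) v = ((MTwentyTwo.intVal v χ : ℤ) : ℂ) :=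
  (MTwentyTwo.cast_intVal χ (hv ▸ pow_orderOf_eq_one v)).symm

theorem mem_vals {m : ℕ} {χ : IrrCharacter G} {d C : ℕ} (hd : dg χ = d)
    (hC : Nat.card (Subgroup.centralizer ({v} : Set G)) = C)
    (hm : (m : ℤ) ∣ MTwentyTwo.intVal v χ - (d : ℤ)) : MTwentyTwo.intVal v χ ∈ vals m C d := by
  have hv2 : v ^ 2 = 1 := hv ▸ pow_orderOf_eq_one v
  have hq := MTwentyTwo.qof_dvd_intVal χ hv2 hC
  rw [X.hcard, show MTwentyTwo.deg χ = d from hd] at hq
  have hd0 : 0 < d := hd ▸ Block.charDegree_pos χ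
  set q := d / Nat.gcd d (ord24 / C) with hqdef
  have hq0 : 0 < q := Nat.div_pos (Nat.gcd_le_left _ hd0) (Nat.gcd_pos_of_pos_left _ hd0)
  obtain ⟨i, hi⟩ := hq
  have hle : MTwentyTwo.intVal v χ * MTwentyTwo.intVal v χ ≤ (C : ℤ) := by
    rw [← hC, ← MTwentyTwo.sum_intVal_sq hv2]
    exact Finset.single_le_sum (f := fun χ => MTwentyTwo.intVal v χ * MTwentyTwo.intVal v χ)
      (fun _ _ => mul_self_nonneg _) (Finset.mem_univ χ)
  have hCd : C ∈ dv 967680 := mem_dv (by norm_num) (hC ▸ centralizer_dvd X hv)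
  have hisq := List.all_eq_true.1 isq_check C hCd
  rw [decide_eq_true_eq] at hisq
  set r := isq C / q with hr
  have hir : i.natAbs ≤ r := by
    rw [hr, Nat.le_div_iff_mul_le hq0]
    have h1 : (q * i.natAbs) * (q * i.natAbs) ≤ C := by
      have : (((q * i.natAbs) * (q * i.natAbs) : ℕ) : ℤ) ≤ (C : ℤ) := by
        push_cast
        rw [hi] at hle
        calc (q : ℤ) * |i| * ((q : ℤ) * |i|) = (q : ℤ) * q * (|i| * |i|) := by ring
          _ = (q : ℤ) * i * ((q : ℤ) * i) := by rw [abs_mul_abs_self]; ring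
          _ ≤ C := hle
      exact_mod_cast this
    have h2 : q * i.natAbs < isq C + 1 := Nat.mul_self_lt_mul_self_iff.1 (lt_of_le_of_lt h1 hisq)
    rw [mul_comm]; omega
  refine List.mem_filter.2 ⟨List.mem_map.2 ⟨(i + r).toNat, List.mem_range.2 ?_, ?_⟩, ?_⟩
  · show (i + (r : ℤ)).toNat < 2 * r + 1; clear_value r; omega
  · rw [Int.toNat_of_nonneg (by omega), hi]; ring
  · simp only [beq_iff_eq]
    exact Int.emod_eq_zero_of_dvd hm

theorem four_dvd (χ : IrrCharacter G) : (4 : ℤ) ∣ MTwentyTwo.intVal v χ - (dg χ : ℤ) :=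
  Int.dvd_of_emod_eq_zero
    (MTwentyTwo.intVal_mod_four (Small.commutator_eq_top (not_cyclic X hv)) χ (hv ▸ pow_orderOf_eq_one v))

/-- The congruence at an element of order `p` commuting with the involution, outside or inside the family. -/
theorem mod_of_commute {p : ℕ} [Fact p.Prime] {P : Sylow p G} {e : ℕ} (S : Small.Shape P e)
    (hp2 : p ≠ 2) (hfac : (Nat.card G).factorization p = 1) (hvC : v ∈ C[(P : Subgroup G)])
    {χ : IrrCharacter G} (h : χ ∈ S.Z ∨ p ∣ dg χ) :
    (p : ℤ) ∣ MTwentyTwo.intVal v χ - (dg χ : ℤ) := by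
  have hv2 : v ^ 2 = 1 := hv ▸ pow_orderOf_eq_one v
  rcases h with h | h
  · have := two_modEq S hp2 hvC hv h (cast_val X hv χ)
    exact (Int.natCast_dvd_natCast.2 (dvd_mul_left p 2)).trans this
  · obtain ⟨x, hx, hx1⟩ : ∃ x : G, x ∈ (P : Subgroup G) ∧ x ≠ 1 := by
      haveI : Nontrivial (P : Subgroup G) := by
        rw [← Finite.one_lt_card_iff_nontrivial, S.card_P]; exact (Fact.out : p.Prime).one_lt
      obtain ⟨x, hx⟩ := exists_ne (1 : (P : Subgroup G))
      exact ⟨x, x.2, fun e' => hx (Subtype.ext e')⟩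
    have hfull : (MEleven.deg χ).factorization p = (Nat.card G).factorization p := by
      refine le_antisymm ((Nat.factorization_le_iff_dvd (Block.charDegree_pos χ).ne' Nat.card_pos.ne').2
        (Block.charDegree_dvd_card χ) p) ?_
      rw [hfac]
      exact Nat.Prime.factorization_pos_of_dvd Fact.out (Block.charDegree_pos χ).ne' h
    have hdt := two_mul_dvd_of_defectZero χ hp2 hfull (orderOf_of_mem S.card_P hx hx1) hv
      (Subgroup.mem_centralizer_iff.1 hvC x hx) (cast_val X hv χ)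
    have h1 : (p : ℤ) ∣ (MEleven.deg χ : ℤ) + MTwentyTwo.intVal v χ :=
      (Int.natCast_dvd_natCast.2 (dvd_mul_left p 2)).trans hdt
    have h2 : (p : ℤ) ∣ (dg χ : ℤ) := Int.natCast_dvd_natCast.2 h
    have := h1.sub (h2.mul_left 2)
    rwa [show (MEleven.deg χ : ℤ) + MTwentyTwo.intVal v χ - 2 * (dg χ : ℤ) =
      MTwentyTwo.intVal v χ - (dg χ : ℤ) by ring] at this

end Cfsg.Lib.MTwentyFour.Local
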