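import Cfsg.Agent.Lib.MTwentyFour.Local.Bessel
import Cfsg.Agent.Lib.MTwentyFour.Index

/-!
The centralizer of a Sylow 5-subgroup has cofactor 12.
-/

set_option autoImplicit false
set_option linter.style.haveILetI false
set_option linter.unusedSectionVars false

namespace Cfsg.Lib.MTwentyFour.Local

open Cfsg Cfsg.Lib Cfsg.Lib.Block Cfsg.Lib.MTwentyFour.Eleven
open Cfsg.Lib.MTwentyFour.Search (ord24)
open scoped ComplexConjugate Classical

universe u

noncomputable local instance (priority := high) fintypeSubgroupFiveC {A : Type u}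
    [Group A] [Fintype A] (H : Subgroup A) : Fintype H := Fintype.ofFinite H

local notation "C[" P "]" => Subgroup.centralizer (SetLike.coe P)

def cofFive : Bool :=
  (dv 384).all fun c => !(48964608 % (4 * c) == 0 && 48964608 / (4 * c) % 5 == 1) || [2, 12, 32, 192].contains c

def cofSeven : Bool :=
  (dv 384).all fun c => !(34974720 % (3 * c) == 0 && 34974720 / (3 * c) % 7 == 1) || [6, 48, 384].contains c

theorem cof_five_check : cofFive = true := by decide +kernel

theorem cof_seven_check : cofSeven = true := by decide +kernel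

variable {G : Type u} [Group G] [Fintype G] [IsSimpleGroup G] [Fact (Nat.Prime 5)] [Fact (Nat.Prime 7)]
  (X : Ctx G) (F : Fams G)
include X

theorem fac_five : (Nat.card G).factorization 5 = 1 := by
  rw [card24 X]; exact factorization_eq (r := 5) (k := 1) (m := 48964608) (by norm_num) (by norm_num) (by norm_num)

theorem fac_seven : (Nat.card G).factorization 7 = 1 := by
  rw [card24 X]; exact factorization_eq (r := 7) (k := 1) (m := 34974720) (by norm_num) (by norm_num) (by norm_num)

theorem cof_five : F.c5 ∈ [2, 12, 32, 192] := by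
  obtain ⟨m, hm⟩ : 5 * F.c5 ∣ 244823040 := F.hC5 ▸ card24 X ▸ Subgroup.card_subgroup_dvd_card _
  have hdiv : ∀ χ ∈ F.S5.Z, dg χ * F.c5 ∣ 48964608 := fun χ hχ => by
    have h1 := deg_dvd_mul F.S5 F.hC5 hχ (m := m) (by rw [card24 X, hm])
    have h2 : F.c5 * m = 48964608 := by
      refine Nat.eq_of_mul_eq_mul_left (show 0 < 5 by norm_num) ?_
      rw [← mul_assoc, ← hm]
    rw [← h2, mul_comm (dg χ)]
    exact Nat.mul_dvd_mul_left _ h1
  have h384 : F.c5 ∣ 384 := by
    have hA := hdiv F.χA (mem5 F).1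
    have hB := hdiv F.χB (mem5 F).2.2.1
    rw [F.dA] at hA
    rw [F.dB] at hB
    exact Nat.dvd_gcd (Nat.dvd_of_mul_dvd_mul_left (k := 5796) (by norm_num) (hA.trans (dvd_of_eq (by norm_num : (48964608 : ℕ) = 5796 * 8448))))
      (Nat.dvd_of_mul_dvd_mul_left (k := 5544) (by norm_num) (hB.trans (dvd_of_eq (by norm_num : (48964608 : ℕ) = 5544 * 8832))))
  have h := List.all_eq_true.1 cof_five_check F.c5 (mem_dv (by norm_num) h384)
  have hn := Small.card_normalizer_mul F.Q
  rw [card_normalizer F.S5.card_P F.hC5 F.S5.relIndex_eq, card24 X] at hn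
  have h1 : Nat.card (Sylow 5 G) * (4 * F.c5) = 48964608 := by
    refine Nat.eq_of_mul_eq_mul_left (show 0 < 5 by norm_num) ?_
    calc 5 * (Nat.card (Sylow 5 G) * (4 * F.c5)) = Nat.card (Sylow 5 G) * (4 * (5 * F.c5)) := by ring
      _ = _ := hn
  have hpos : 0 < 4 * F.c5 := Nat.pos_of_ne_zero fun e => by rw [e, mul_zero] at h1; omega
  have h2 : Nat.card (Sylow 5 G) % 5 = 1 := by
    have := card_sylow_modEq_one 5 G
    rwa [Nat.ModEq, Nat.one_mod] at this
  rw [← h1] at h
  generalize Nat.card (Sylow 5 G) = n at h h2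
  simpa [Nat.mul_div_cancel _ hpos, h2, List.contains_iff_mem] using h

theorem cof_seven : F.c7 ∈ [6, 48, 384] := by
  obtain ⟨m, hm⟩ : 7 * F.c7 ∣ 244823040 := F.hC7 ▸ card24 X ▸ Subgroup.card_subgroup_dvd_card _
  have hdiv : ∀ χ ∈ F.S7.Z, dg χ * F.c7 ∣ 34974720 := fun χ hχ => by
    have h1 := deg_dvd_mul F.S7 F.hC7 hχ (m := m) (by rw [card24 X, hm])
    have h2 : F.c7 * m = 34974720 := by
      refine Nat.eq_of_mul_eq_mul_left (show 0 < 7 by norm_num) ?_
      rw [← mul_assoc, ← hm]
    rw [← h2, mul_comm (dg χ)]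
    exact Nat.mul_dvd_mul_left _ h1
  have h384 : F.c7 ∣ 384 := by
    have ha := hdiv F.χa (mem7 F).1
    have hb := hdiv F.χb (mem7 F).2.1
    rw [F.da] at ha
    rw [F.db] at hb
    exact (Nat.dvd_gcd (Nat.dvd_of_mul_dvd_mul_left (k := 2024) (by norm_num) (ha.trans (dvd_of_eq (by norm_num : (34974720 : ℕ) = 2024 * 17280))))
      (Nat.dvd_of_mul_dvd_mul_left (k := 1035) (by norm_num) (hb.trans (dvd_of_eq (by norm_num : (34974720 : ℕ) = 1035 * 33792))))).trans (by norm_num)
  have h := List.all_eq_true.1 cof_seven_check F.c7 (mem_dv (by norm_num) h384)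
  have hn := Small.card_normalizer_mul F.P
  rw [card_normalizer F.S7.card_P F.hC7 F.S7.relIndex_eq, card24 X] at hn
  have h1 : Nat.card (Sylow 7 G) * (3 * F.c7) = 34974720 := by
    refine Nat.eq_of_mul_eq_mul_left (show 0 < 7 by norm_num) ?_
    calc 7 * (Nat.card (Sylow 7 G) * (3 * F.c7)) = Nat.card (Sylow 7 G) * (3 * (7 * F.c7)) := by ring
      _ = _ := hn
  have hpos : 0 < 3 * F.c7 := Nat.pos_of_ne_zero fun e => by rw [e, mul_zero] at h1; omega
  have h2 : Nat.card (Sylow 7 G) % 7 = 1 := by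
    have := card_sylow_modEq_one 7 G
    rwa [Nat.ModEq, Nat.one_mod] at this
  rw [← h1] at h
  generalize Nat.card (Sylow 7 G) = n at h h2
  simpa [Nat.mul_div_cancel _ hpos, h2, List.contains_iff_mem] using h

theorem exists_gen {p : ℕ} [Fact p.Prime] (Q : Sylow p G) (hQ : Nat.card (Q : Subgroup G) = p) :
    ∃ b, orderOf b = p ∧ b ∈ (Q : Subgroup G) ∧ Subgroup.zpowers b = (Q : Subgroup G) ∧
      b ∈ sing Q ∧ Subgroup.centralizer ({b} : Set G) = C[(Q : Subgroup G)] := by
  obtain ⟨⟨b, hb⟩, hbo⟩ := exists_prime_orderOf_dvd_card' (G := (Q : Subgroup G)) p (by rw [hQ])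
  rw [Subgroup.orderOf_mk] at hbo
  have hb1 : b ≠ 1 := fun h => by rw [h, orderOf_one] at hbo; exact (Fact.out : p.Prime).ne_one hbo.symm
  exact ⟨b, hbo, hb, Small.zpowers_eq_of_prime_card hQ hb hb1,
    mem_sing.2 ⟨le_centralizer_self hQ hb, hbo ▸ dvd_rfl⟩, centralizer_singleton_eq hQ hb hb1⟩

/-- The facts from the computed list at an involution centralizing the Sylow 5-subgroup. -/
theorem five_facts {v : G} (hv : orderOf v = 2) (hvC : v ∈ C[(F.Q : Subgroup G)]) {C : ℕ}
    (hC : Nat.card (Subgroup.centralizer ({v} : Set G)) = C) :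
    rowAt F v ∈ sols F.c5 20 C ∧ C ∈ cents 5 := by
  constructor
  · refine mem_sols F X hv hC fun χ hχ => ?_
    have h4 := four_dvd X hv χ
    have h5 : (5 : ℤ) ∣ MTwentyTwo.intVal v χ - (dg χ : ℤ) := by
      refine mod_of_commute X hv F.S5 (by norm_num) (fac_five X) hvC ?_
      simp only [List.mem_cons, List.not_mem_nil, or_false] at hχ
      rcases hχ with rfl | rfl | rfl | rfl | rfl | rfl
      · exact Or.inl (mem5 F).2.1
      · exact Or.inr (by rw [F.db]; norm_num)
      · exact Or.inr (by rw [F.dc]; norm_num)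
      · exact Or.inl (mem5 F).1
      · exact Or.inl (mem5 F).2.2.1
      · exact Or.inl (mem5 F).2.2.2
    omega
  · have h967 := centralizer_dvd X hv
    rw [hC] at h967
    refine List.mem_filter.2 ⟨mem_dv (by norm_num) h967, ?_⟩
    have h5 : 5 ∣ C := by
      rw [← hC, ← F.S5.card_P]
      exact Subgroup.card_dvd_of_le fun x hx =>
        Subgroup.mem_centralizer_singleton_iff.2 (Subgroup.mem_centralizer_iff.1 hvC x hx)
    have h2 : 2 ∣ C := by
      rw [← hC, ← hv]
      exact Subgroup.orderOf_dvd_natCard _ (Subgroup.mem_centralizer_singleton_iff.2 rfl)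
    simp only [beq_iff_eq]
    omega

theorem exists_involution : ∃ v : G, orderOf v = 2 ∧ v ∈ C[(F.Q : Subgroup G)] := by
  have h2 : 2 ∣ Nat.card C[(F.Q : Subgroup G)] := by
    rw [F.hC5]
    have := cof_five X F
    simp only [List.mem_cons, List.not_mem_nil, or_false] at this
    omega
  haveI : Fact (Nat.Prime 2) := ⟨Nat.prime_two⟩
  obtain ⟨⟨v, hv⟩, hvo⟩ := exists_prime_orderOf_dvd_card' (G := C[(F.Q : Subgroup G)]) 2 h2
  exact ⟨v, by rwa [Subgroup.orderOf_mk] at hvo, hv⟩

theorem seven_normalizer {R : Sylow 7 G} :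
    Nat.card (Subgroup.normalizer ((R : Subgroup G) : Set G)) = 3 * (7 * F.c7) := by
  have h1 := Small.card_normalizer_mul R
  have h2 := Small.card_normalizer_mul F.P
  rw [card_normalizer F.S7.card_P F.hC7 F.S7.relIndex_eq] at h2
  exact Nat.eq_of_mul_eq_mul_left Nat.card_pos (h1.trans h2.symm)

theorem five_normalizer {R : Sylow 5 G} :
    Nat.card (Subgroup.normalizer ((R : Subgroup G) : Set G)) = 4 * (5 * F.c5) := by
  have h1 := Small.card_normalizer_mul R
  have h2 := Small.card_normalizer_mul F.Q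
  rw [card_normalizer F.S5.card_P F.hC5 F.S5.relIndex_eq] at h2
  exact Nat.eq_of_mul_eq_mul_left Nat.card_pos (h1.trans h2.symm)

/-- An involution commuting with elements of orders 5 and 7 gives, after conjugation, one in the centralizer of the Sylow 5-subgroup. -/
theorem five_of_common {j b r : G} (hj : orderOf j = 2) (hb : orderOf b = 5) (hjb : Commute j b)
    (hr : orderOf r = 7) (hjr : Commute j r) :
    ∃ i : G, orderOf i = 2 ∧ i ∈ C[(F.Q : Subgroup G)] ∧
      ∃ s : G, orderOf s = 7 ∧ Commute i s := by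
  obtain ⟨R, hR⟩ := (IsPGroup.of_card (G := ↥(Subgroup.zpowers b)) (p := 5) (n := 1)
    (by rw [Nat.card_zpowers, hb, pow_one])).exists_le_sylow
  obtain ⟨x, hx⟩ := MulAction.exists_smul_eq G R F.Q
  have hxb : x * b * x⁻¹ ∈ (F.Q : Subgroup G) := by
    rw [← hx, Sylow.coe_subgroup_smul]
    exact Subgroup.smul_mem_pointwise_smul b (MulAut.conj x) _ (hR (Subgroup.mem_zpowers b))
  have hne : x * b * x⁻¹ ≠ 1 := fun h => by
    have := orderOf_conj' x b
    rw [h, orderOf_one, hb] at this
    norm_num at this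
  refine ⟨x * j * x⁻¹, (orderOf_conj' x j).trans hj, ?_, x * r * x⁻¹, (orderOf_conj' x r).trans hr,
    hjr.map (MulAut.conj x).toMonoidHom⟩
  rw [← centralizer_singleton_eq F.S5.card_P hxb hne]
  exact Subgroup.mem_centralizer_singleton_iff.2 (hjb.map (MulAut.conj x).toMonoidHom).eq

theorem seven_dvd_cent {i s : G} (hs : orderOf s = 7) (his : Commute i s) :
    7 ∣ Nat.card (Subgroup.centralizer ({i} : Set G)) :=
  hs ▸ Subgroup.orderOf_dvd_natCard _ (Subgroup.mem_centralizer_singleton_iff.2 his.eq.symm)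

/-- The cofactor at 5 is 12. -/
theorem cof_five_eq : F.c5 = 12 := by
  obtain ⟨v, hv, hvC⟩ := exists_involution X F
  set C := Nat.card (Subgroup.centralizer ({v} : Set G)) with hC
  obtain ⟨hmem, hCs⟩ := five_facts X F hv hvC hC.symm
  have hchk := List.all_eq_true.1 five_check C hCs
  simp only [Bool.and_eq_true, List.isEmpty_iff] at hchk
  obtain ⟨⟨⟨h2, h32⟩, h192⟩, -⟩ := hchk
  have hc := cof_five X F
  simp only [List.mem_cons, List.not_mem_nil, or_false] at hc
  rcases hc with e | e | e | e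
  · rw [e, h2] at hmem; simp at hmem
  · exact e
  · rw [e, h32] at hmem; simp at hmem
  exfalso
  rw [e] at hmem
  have h := List.all_eq_true.1 h192 _ hmem
  simp only [Bool.and_eq_true, Bool.not_eq_true', beq_eq_false_iff_ne] at h
  obtain ⟨b, hbo, hbQ, hbz, hbs, hbC⟩ := exists_gen X F.Q F.S5.card_P
  haveI : Fact (Nat.Prime 11) := ⟨by norm_num⟩
  have hab : (F.χa : G → ℂ) b = -1 := by
    rw [val_full F.S5 (by norm_num) F.hC5 (mem5 F).2.1 hbs, F.sa]; norm_num
  have hcount := hits_count F.S7.card_P F.S7 F.hC7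
    (MTwentyTwo.not_dvd_orderOf (G := G) Fact.out (by norm_num) hv) (g := b) (by rw [hbo]; norm_num)
  simp only [sum_Z7 F, F.S7.sign_one, F.sa', F.sb, F.sc, cast_val X hv, MEleven.apply_one,
    hab, Small.one'_apply,
    value_zero (fac_five X) F.χb (by rw [F.db]; norm_num) (show 5 ∣ orderOf b by rw [hbo]),
    value_zero (fac_five X) F.χc (by rw [F.dc]; norm_num) (show 5 ∣ orderOf b by rw [hbo]),
    show MEleven.deg F.χa = 2024 from F.da,
    show MEleven.deg (Small.one' G) = 1 from Small.charDegree_one',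
    MTwentyTwo.intVal_eq (z := v) (χ := Small.one' G) (m := 1) (by rw [Small.one'_apply]; norm_num)] at hcount
  rw [← hC, card24 X] at hcount
  push_cast at hcount
  have hM : (((hits 7 v b).card : ℤ)) * (C : ℤ) = 34560 * (2024 - (rowAt F v).a) := by
    have h' : (((((hits 7 v b).card : ℤ)) * (C : ℤ) : ℤ) : ℂ) = ((34560 * (2024 - (rowAt F v).a) : ℤ) : ℂ) := by
      simp only [rowAt]
      push_cast
      linear_combination hcount / 21
    exact_mod_cast h'
  haveI : Fact (Nat.Prime 2) := ⟨Nat.prime_two⟩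
  obtain ⟨U, hU⟩ := Sylow.exists_subgroup_card_pow_prime (G := C[(F.Q : Subgroup G)]) 2 (n := 6)
    (by rw [F.hC5, e]; norm_num)
  have hU' : Nat.card (U.map C[(F.Q : Subgroup G)].subtype) = 64 := by
    rw [Subgroup.card_map_of_injective (Subgroup.subtype_injective _), hU]; norm_num
  obtain ⟨j, r, hj, hjb, hr, hjr⟩ := exists_common (U.map C[(F.Q : Subgroup G)].subtype)
    (IsPGroup.of_card (n := 6) (by rw [hU']; norm_num)) (q := 7) (v := v) (g := b)
    (fun u hu => by
      obtain ⟨u', -, rfl⟩ := hu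
      exact (Subgroup.mem_centralizer_iff.1 u'.2 b hbQ).symm)
    (fun hd => by
      rw [hU'] at hd
      obtain ⟨k, hk⟩ := hd
      refine h.1 (Int.emod_eq_zero_of_dvd ⟨(k : ℤ), ?_⟩)
      rw [← hM, hk]; push_cast; ring)
  obtain ⟨i, hi, hiC, s, hs, his⟩ := five_of_common X F hj hbo hjb hr hjr
  set D := Nat.card (Subgroup.centralizer ({i} : Set G)) with hD
  obtain ⟨hmem', hDs⟩ := five_facts X F hi hiC hD.symm
  have hchk' := List.all_eq_true.1 five_check D hDs
  simp only [Bool.and_eq_true] at hchk'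
  rw [e] at hmem'
  have h' := List.all_eq_true.1 hchk'.1.2 _ hmem'
  simp only [Bool.and_eq_true, Bool.or_eq_true, Bool.not_eq_true', beq_eq_false_iff_ne] at h'
  have h7D : 7 ∣ D := seven_dvd_cent X hs his
  have h35 := h'.2.resolve_left fun hne => hne (Nat.mod_eq_zero_of_dvd h7D)
  simp only [noThirtyFive, Bool.and_eq_true, Bool.not_eq_true', beq_eq_false_iff_ne, List.all_eq_true] at h35
  obtain ⟨R, hR⟩ := (IsPGroup.of_card (G := ↥(Subgroup.zpowers s)) (p := 7) (n := 1)
    (by rw [Nat.card_zpowers, hs, pow_one])).exists_le_sylow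
  have hRs : (R : Subgroup G) = Subgroup.zpowers s :=
    (Subgroup.eq_of_le_of_card_ge hR (by rw [Nat.card_zpowers, hs, sylow_seven X R])).symm
  refine no_thirtyFive R (sylow_seven X R) ?_ ?_ (fun Q' hd => ?_) (fun Q' => sylow_five X Q')
    (Subgroup.centralizer ({i} : Set G)) ?_ ?_ ?_ ?_
  · obtain ⟨x, hx⟩ := MulAction.exists_smul_eq G F.P R
    have hn := seven_normalizer X F (R := R)
    have hcR : Nat.card C[(R : Subgroup G)] = 7 * F.c7 := by
      rw [← F.hC7, ← hx, Sylow.coe_subgroup_smul]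
      refine (Nat.card_congr (Equiv.subtypeEquiv (MulAut.conj x).toEquiv fun a => ?_)).symm
      simp only [Subgroup.mem_centralizer_iff, SetLike.mem_coe, MulEquiv.toEquiv_eq_coe, MulEquiv.coe_toEquiv]
      constructor
      · intro ha y hy
        obtain ⟨y', hy', rfl⟩ := Subgroup.mem_smul_pointwise_iff_exists _ _ _ |>.1 hy
        rw [MulAut.smul_def, ← map_mul, ha y' hy', map_mul]
      · intro ha y hy
        have := ha (MulAut.conj x y) (Subgroup.smul_mem_pointwise_smul y (MulAut.conj x) _ hy)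
        rw [← map_mul, ← map_mul] at this
        exact (MulAut.conj x).injective this
    have := Subgroup.card_mul_index ((C[(R : Subgroup G)]).subgroupOf
      (Subgroup.normalizer ((R : Subgroup G) : Set G)))
    rw [Nat.card_congr (Subgroup.subgroupOfEquivOfLe (Subgroup.centralizer_le_normalizer _)).toEquiv,
      hcR, hn] at this
    refine Nat.eq_of_mul_eq_mul_left (show 0 < 7 * F.c7 from hcR ▸ Nat.card_pos) ?_
    rw [mul_comm _ 3]
    exact this
  · rw [seven_normalizer X F]
    have := cof_seven X F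
    simp only [List.mem_cons, List.not_mem_nil, or_false] at this
    omega
  · rw [five_normalizer X F, e] at hd; norm_num at hd
  · rw [hRs, Subgroup.zpowers_le]
    exact Subgroup.mem_centralizer_singleton_iff.2 his.eq.symm
  · rw [← hD]
    have hcm := (List.mem_filter.1 hDs).2
    simp only [beq_iff_eq] at hcm
    omega
  · exact fun h9 => h35.1 (Nat.mod_eq_zero_of_dvd h9)
  · intro n hn hn1 hn5
    have := h35.2 n (mem_dv ((centralizer_dvd X hi).trans (by norm_num)) hn)
    simp only [Bool.or_eq_true, Bool.not_eq_true', Bool.and_eq_false_iff, beq_eq_false_iff_ne, beq_iff_eq] at this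
    omega

end Cfsg.Lib.MTwentyFour.Local
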