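import Cfsg.Agent.Lib.MTwentyFour.Eleven.Local
import Cfsg.Agent.Lib.MTwentyFour.Index

/-!
An involution inverting an element of order 11 and commuting with an element of order 5, and the
bound it puts on the values of the characters.
-/

set_option autoImplicit false
set_option linter.style.haveILetI false
set_option linter.unusedSectionVars false

namespace Cfsg.Lib.MTwentyFour.Local

open Cfsg Cfsg.Lib Cfsg.Lib.Block Cfsg.Lib.MTwentyFour.Eleven
open Cfsg.Lib.MTwentyFour.Search (ord24 v11)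
open scoped ComplexConjugate Classical

universe u

noncomputable local instance (priority := high) fintypeSubgroupInverter {A : Type u}
    [Group A] [Fintype A] (H : Subgroup A) : Fintype H := Fintype.ofFinite H

local notation "C[" P "]" => Subgroup.centralizer (SetLike.coe P)

variable {G : Type u} [Group G] [Fintype G] [IsSimpleGroup G] (X : Ctx G)
include X

/-- The column at an element of order 11. -/
theorem column_of_order_eleven [Fact (Nat.Prime 11)] {y : G} (hy : orderOf y = 11) :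
    (∀ χ : IrrCharacter G, (χ : G → ℂ) y = (v11 (dg χ) : ℂ)) ∧
      ∀ χ : IrrCharacter G, dg χ % 11 = 0 ∨ dg χ % 11 = 1 ∨ dg χ % 11 = 10 := by
  have hcard : Nat.card G = 244823040 := X.hcard.trans (by norm_num)
  obtain ⟨R, hR, hyR, -⟩ := exists_sylow (q := 11) (X.hcard ▸ by norm_num) (X.hcard ▸ by norm_num) hy
  obtain ⟨h, -, h'⟩ := column_eleven R
    (by rw [hcard]; exact factorization_eq (r := 11) (k := 1) (m := 22256640) (by norm_num) (by norm_num) (by norm_num))
    hR (local_eleven hcard R).1 (local_eleven hcard R).2 hyR hy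
  exact ⟨h, h'⟩

/-- An involution inverting an element of order 11 and commuting with an element of order 5. -/
theorem exists_inverter : ∃ y z f : G, orderOf y = 11 ∧ orderOf z = 2 ∧ orderOf f = 5 ∧
    z * y * z⁻¹ = y⁻¹ ∧ Commute f z := by
  haveI : Fact (Nat.Prime 11) := ⟨by norm_num⟩
  haveI : Fact (Nat.Prime 2) := ⟨Nat.prime_two⟩
  haveI : Fact (Nat.Prime 5) := ⟨by norm_num⟩
  have hcard : Nat.card G = 244823040 := X.hcard.trans (by norm_num)
  obtain ⟨R⟩ : Nonempty (Sylow 11 G) := inferInstance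
  have hR : Nat.card (R : Subgroup G) = 11 :=
    Order175560.sylow_card_eq (hcard ▸ by norm_num) (hcard ▸ by norm_num) R
  obtain ⟨⟨y, hyR⟩, hy⟩ := exists_prime_orderOf_dvd_card' (G := (R : Subgroup G)) 11 (by rw [hR])
  rw [Subgroup.orderOf_mk] at hy
  have hy1 : y ≠ 1 := fun h => by rw [h, orderOf_one] at hy; norm_num at hy
  have hzy : Subgroup.zpowers y = (R : Subgroup G) := Small.zpowers_eq_of_prime_card hR hyR hy1
  have hcy : Subgroup.centralizer ({y} : Set G) = (R : Subgroup G) := by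
    rw [centralizer_singleton_eq hR hyR hy1]
    exact (Subgroup.eq_of_le_of_card_ge (le_centralizer_self hR)
      (le_of_eq (by rw [(local_eleven hcard R).1, hR]))).symm
  set N := Subgroup.normalizer ((R : Subgroup G) : Set G)
  have hN : Nat.card N = 110 := by
    rw [card_normalizer hR (c := 1) ((local_eleven hcard R).1.trans (by norm_num)) (local_eleven hcard R).2]
  obtain ⟨⟨z, hzN⟩, hz⟩ := exists_prime_orderOf_dvd_card' (G := N) 2 (by rw [hN]; norm_num)
  rw [Subgroup.orderOf_mk] at hz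
  have hpow : ∀ g ∈ N, ∃ k : ℕ, g * y * g⁻¹ = y ^ k := fun g hg => by
    have h : g * y * g⁻¹ ∈ Subgroup.zpowers y :=
      hzy ▸ (Subgroup.mem_normalizer_iff.1 hg y).1 hyR
    obtain ⟨k, hk⟩ := mem_powers_iff_mem_zpowers.2 h
    exact ⟨k, hk.symm⟩
  have hzz : z * z = 1 := by rw [← pow_two, ← hz, pow_orderOf_eq_one]
  have hinv : z * y * z⁻¹ = y⁻¹ := by
    obtain ⟨k, hk⟩ := hpow z hzN
    have h2 : y ^ (k * k) = y := by
      rw [pow_mul, ← hk, conj_pow, ← hk]
      calc z * (z * y * z⁻¹) * z⁻¹ = (z * z) * y * (z * z)⁻¹ := by group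
        _ = y := by rw [hzz]; group
    have hk2 : k * k % 11 = 1 := by
      have h := (pow_eq_pow_iff_modEq (x := y) (m := k * k) (n := 1)).1 ((pow_one y).trans h2.symm)
      rw [hy] at h
      exact h.symm
    have hk3 : k % 11 = 1 ∨ k % 11 = 10 := by
      have hd : ∀ r < 11, r * r % 11 = 1 → r = 1 ∨ r = 10 := by decide
      exact hd _ (Nat.mod_lt _ (by norm_num)) (by rw [← Nat.mul_mod]; exact hk2)
    rcases hk3 with h | h
    · exfalso
      have hzc : z ∈ Subgroup.centralizer ({y} : Set G) := Subgroup.mem_centralizer_singleton_iff.2 (by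
        calc z * y = z * y * z⁻¹ * z := by group
          _ = y * z := by rw [hk, pow_eq_pow_mod k (hy ▸ pow_orderOf_eq_one y), h, pow_one])
      rw [hcy] at hzc
      have := Subgroup.orderOf_dvd_natCard _ hzc
      rw [hz, hR] at this
      norm_num at this
    · rw [hk, pow_eq_pow_mod k (hy ▸ pow_orderOf_eq_one y), h]
      refine eq_inv_of_mul_eq_one_left ?_
      rw [← pow_succ]
      calc y ^ (10 + 1) = y ^ orderOf y := by rw [hy]
        _ = 1 := pow_orderOf_eq_one y
  -- a Sylow 5-subgroup of the normalizer meeting its normalizer in an involution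
  obtain ⟨F⟩ : Nonempty (Sylow 5 N) := inferInstance
  have hF : Nat.card (F : Subgroup N) = 5 :=
    Order175560.sylow_card_eq (hN ▸ by norm_num) (hN ▸ by norm_num) F
  set M := Subgroup.normalizer ((F : Subgroup N) : Set N)
  have hM2 : 2 ∣ Nat.card M := by
    have h1 := (Small.card_normalizer_mul F).trans hN
    have h2 : Nat.card (Sylow 5 N) % 5 = 1 := by
      have := card_sylow_modEq_one 5 N
      rwa [Nat.ModEq, Nat.one_mod] at this
    change Nat.card (Sylow 5 N) * Nat.card M = 110 at h1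
    by_contra hodd
    obtain ⟨j, hj⟩ : 2 ∣ Nat.card (Sylow 5 N) :=
      ((Nat.Prime.dvd_mul Nat.prime_two).1 (h1 ▸ (by norm_num : 2 ∣ 110))).resolve_right hodd
    have hj55 : j * Nat.card M = 55 := by rw [hj] at h1; linarith
    have hjd : j ∣ 55 := ⟨_, hj55.symm⟩
    have h5M : 5 ∣ Nat.card M := hF ▸ Subgroup.card_dvd_of_le Subgroup.le_normalizer
    have hj11 : j ∣ 11 := by
      obtain ⟨i, hi⟩ := h5M
      exact ⟨i, by rw [hi] at hj55; linarith⟩
    rcases (Nat.dvd_prime (by norm_num)).1 hj11 with e | e <;> rw [hj, e] at h2 <;> norm_num at h2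
  obtain ⟨⟨⟨s, hsN⟩, hsM⟩, hs⟩ := exists_prime_orderOf_dvd_card' (G := M) 2 hM2
  rw [Subgroup.orderOf_mk, Subgroup.orderOf_mk] at hs
  obtain ⟨⟨⟨f, hfN⟩, hfF⟩, hf⟩ := exists_prime_orderOf_dvd_card' (G := (F : Subgroup N)) 5 (by rw [hF])
  rw [Subgroup.orderOf_mk, Subgroup.orderOf_mk] at hf
  have hf1 : (⟨f, hfN⟩ : N) ≠ 1 := fun h => by
    have : f = 1 := congrArg Subtype.val h
    rw [this, orderOf_one] at hf
    norm_num at hf
  have hfz : Subgroup.zpowers (⟨f, hfN⟩ : N) = (F : Subgroup N) := Small.zpowers_eq_of_prime_card hF hfF hf1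
  have hmem : (⟨s, hsN⟩ : N) * ⟨f, hfN⟩ * ⟨s, hsN⟩⁻¹ ∈ Subgroup.zpowers (⟨f, hfN⟩ : N) :=
    hfz ▸ (Subgroup.mem_normalizer_iff.1 hsM _).1 hfF
  obtain ⟨i, hi⟩ := mem_powers_iff_mem_zpowers.2 hmem
  have hi' : s * f * s⁻¹ = f ^ i := by
    have := congrArg Subtype.val hi
    simpa using this.symm
  obtain ⟨l, hl⟩ := hpow s hsN
  obtain ⟨k, hk⟩ := hpow f hfN
  -- conjugates act in the same way on the element of order 11
  have hsame : (s * f * s⁻¹) * y * (s * f * s⁻¹)⁻¹ = f * y * f⁻¹ := by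
    obtain ⟨l', hl'⟩ := hpow s⁻¹ (inv_mem hsN)
    have e : y ^ (l' * l) = y := by
      rw [mul_comm, pow_mul, ← hl, conj_pow, ← hl']; group
    calc (s * f * s⁻¹) * y * (s * f * s⁻¹)⁻¹ = s * (f * (s⁻¹ * y * s⁻¹⁻¹) * f⁻¹) * s⁻¹ := by group
      _ = y ^ (l * (k * l')) := by
          rw [hl', ← conj_pow, hk, ← pow_mul, ← conj_pow, hl, ← pow_mul]
      _ = (y ^ (l' * l)) ^ k := by rw [← pow_mul]; ring_nf
      _ = f * y * f⁻¹ := by rw [e, hk]
  have hfi : f ^ i = f := by
    have hw : f⁻¹ * f ^ i ∈ Subgroup.centralizer ({y} : Set G) := Subgroup.mem_centralizer_singleton_iff.2 (by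
      rw [hi'] at hsame
      calc f⁻¹ * f ^ i * y = f⁻¹ * (f ^ i * y * (f ^ i)⁻¹) * f ^ i := by group
        _ = f⁻¹ * (f * y * f⁻¹) * f ^ i := by rw [hsame]
        _ = y * (f⁻¹ * f ^ i) := by group)
    rw [hcy] at hw
    have h11 := Subgroup.orderOf_dvd_natCard _ hw
    rw [hR] at h11
    have h5 : orderOf (f⁻¹ * f ^ i) ∣ 5 := by
      refine orderOf_dvd_of_pow_eq_one ?_
      have hf5 : f ^ 5 = 1 := hf ▸ pow_orderOf_eq_one f
      rw [((Commute.refl f).inv_left.pow_right i).mul_pow, inv_pow, hf5, ← pow_mul, mul_comm, pow_mul, hf5]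
      simp
    have h1 := Nat.eq_one_of_dvd_coprimes (by norm_num : Nat.Coprime 5 11) h5 h11
    exact (inv_mul_eq_one.1 (orderOf_eq_one_iff.1 h1)).symm
  have hsinv : s * y * s⁻¹ = y⁻¹ := by
    have hss : s * s = 1 := by rw [← pow_two, ← hs, pow_orderOf_eq_one]
    have h2 : y ^ (l * l) = y := by
      rw [pow_mul, ← hl, conj_pow, ← hl]
      calc s * (s * y * s⁻¹) * s⁻¹ = (s * s) * y * (s * s)⁻¹ := by group
        _ = y := by rw [hss]; group
    have hk2 : l * l % 11 = 1 := by
      have h := (pow_eq_pow_iff_modEq (x := y) (m := l * l) (n := 1)).1 ((pow_one y).trans h2.symm)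
      rw [hy] at h
      exact h.symm
    have hk3 : l % 11 = 1 ∨ l % 11 = 10 := by
      have hd : ∀ r < 11, r * r % 11 = 1 → r = 1 ∨ r = 10 := by decide
      exact hd _ (Nat.mod_lt _ (by norm_num)) (by rw [← Nat.mul_mod]; exact hk2)
    rcases hk3 with h | h
    · exfalso
      have hzc : s ∈ Subgroup.centralizer ({y} : Set G) := Subgroup.mem_centralizer_singleton_iff.2 (by
        calc s * y = s * y * s⁻¹ * s := by group
          _ = y * s := by rw [hl, pow_eq_pow_mod l (hy ▸ pow_orderOf_eq_one y), h, pow_one])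
      rw [hcy] at hzc
      have := Subgroup.orderOf_dvd_natCard _ hzc
      rw [hs, hR] at this
      norm_num at this
    · rw [hl, pow_eq_pow_mod l (hy ▸ pow_orderOf_eq_one y), h]
      refine eq_inv_of_mul_eq_one_left ?_
      rw [← pow_succ]
      calc y ^ (10 + 1) = y ^ orderOf y := by rw [hy]
        _ = 1 := pow_orderOf_eq_one y
  refine ⟨y, s, f, hy, hs, hf, hsinv, ?_⟩
  rw [hfi] at hi'
  show f * s = s * f
  calc f * s = s * f * s⁻¹ * s := by rw [hi']
    _ = s * f := by group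

/-- The value at an involution inverting an element of order 11 is bounded by the fixed space of that element. -/
theorem inverted_bound {y z : G} (hy : orderOf y = 11) (hz : orderOf z = 2) (hinv : z * y * z⁻¹ = y⁻¹)
    (χ : IrrCharacter G) {t : ℤ} (ht : (χ : G → ℂ) z = t) :
    11 * (t.natAbs : ℤ) ≤ (dg χ : ℤ) + 10 * v11 (dg χ) := by
  haveI : Fact (Nat.Prime 11) := ⟨by norm_num⟩
  have hy11 : y ^ 11 = 1 := hy ▸ pow_orderOf_eq_one y
  have hzz : z * z = 1 := by rw [← pow_two, ← hz, pow_orderOf_eq_one]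
  set D := Subgroup.zpowers y
  have hzpow : ∀ i : ℕ, z * y ^ i * z⁻¹ = (y ^ i)⁻¹ := fun i => by rw [← conj_pow, hinv, inv_pow]
  set A := normProd (Subgroup.zpowers z) D (fun a ha k hk => by
    obtain ⟨i, rfl⟩ := mem_powers_iff_mem_zpowers.2 hk
    obtain ⟨j, hj, rfl⟩ := (mem_zpowers_iff_mem_range_orderOf.1 ha |> Finset.mem_image.1)
    rw [Finset.mem_range, hz] at hj
    interval_cases j
    · simp only [pow_zero, one_mul, inv_one, mul_one]
      exact pow_mem (Subgroup.mem_zpowers y) i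
    · simp only [pow_one]
      rw [hzpow]
      exact inv_mem (pow_mem (Subgroup.mem_zpowers y) i))
  have hzD : z ∉ D := fun h => by
    have := Subgroup.orderOf_dvd_natCard _ h
    rw [hz, Nat.card_zpowers, hy] at this
    norm_num at this
  have hmem : ∀ g, g ∈ A ↔ g ∈ D ∨ z⁻¹ * g ∈ D := fun g => by
    constructor
    · rintro ⟨a, ha, hk⟩
      obtain ⟨j, hj, rfl⟩ := (mem_zpowers_iff_mem_range_orderOf.1 ha |> Finset.mem_image.1)
      rw [Finset.mem_range, hz] at hj
      interval_cases j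
      · exact Or.inl (by simpa using hk)
      · exact Or.inr (by simpa using hk)
    · rintro (h | h)
      · exact ⟨1, one_mem _, by simpa using h⟩
      · exact ⟨z, Subgroup.mem_zpowers z, h⟩
  set sD : Finset G := Finset.univ.filter fun g => g ∈ D
  set sA : Finset G := Finset.univ.filter fun g => g ∈ A
  have hsum : ∀ (H : Subgroup G), ∑ g : H, (χ : G → ℂ) g = ∑ g ∈ Finset.univ.filter (fun g => g ∈ H), (χ : G → ℂ) g :=
    fun H => (Finset.sum_subtype _ (fun x => by simp) (fun x => (χ : G → ℂ) x)).symm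
  have hA : sA = sD ∪ sD.image (z * ·) := by
    ext g
    simp only [sA, sD, Finset.mem_filter, Finset.mem_univ, true_and, Finset.mem_union, Finset.mem_image, hmem]
    exact or_congr_right ⟨fun h => ⟨_, h, by group⟩, fun ⟨d, hd, e⟩ => by rw [← e]; simpa using hd⟩
  have hdisj : Disjoint sD (sD.image (z * ·)) := by
    rw [Finset.disjoint_left]
    intro g hg hg'
    simp only [sD, Finset.mem_filter, Finset.mem_univ, true_and, Finset.mem_image] at hg hg'
    obtain ⟨d, hd, rfl⟩ := hg'
    exact hzD (by simpa using mul_mem hg (inv_mem hd))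
  have hconj : ∀ d ∈ sD, (χ : G → ℂ) (z * d) = t := fun d hd => by
    obtain ⟨i, rfl⟩ := mem_powers_iff_mem_zpowers.2 (Finset.mem_filter.1 hd).2
    have e : y ^ (5 * i) * z * (y ^ (5 * i))⁻¹ = z * y ^ i := by
      have h1 : y ^ (5 * i) * z = z * (y ^ (5 * i))⁻¹ := by
        rw [← hzpow]
        calc y ^ (5 * i) * z = (z * z) * y ^ (5 * i) * z := by rw [hzz, one_mul]
          _ = z * (z * y ^ (5 * i) * z⁻¹) * (z * z) := by group
          _ = z * (z * y ^ (5 * i) * z⁻¹) := by rw [hzz, mul_one]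
      have h2 : ((y ^ (5 * i))⁻¹ * (y ^ (5 * i))⁻¹) = y ^ i := by
        rw [← mul_inv_rev, ← pow_add]
        refine inv_eq_of_mul_eq_one_right ?_
        rw [← pow_add, show 5 * i + 5 * i + i = 11 * i by ring, pow_mul, hy11, one_pow]
      rw [h1, mul_assoc, h2]
    rw [← e, χ.2.isCharacter.conj_invariant]
    exact ht
  have hcardD : Nat.card D = 11 := by rw [Nat.card_zpowers, hy]
  have hsD : sD.card = 11 := by
    rw [← Fintype.card_subtype, ← Nat.card_eq_fintype_card]; exact hcardD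
  have hcardA : Nat.card A = 22 := by
    rw [show Nat.card A = sA.card by rw [← Fintype.card_subtype, ← Nat.card_eq_fintype_card],
      hA, Finset.card_union_of_disjoint hdisj,
      Finset.card_image_of_injective _ (mul_right_injective z), hsD]
  have hval : ∀ g ∈ sD.erase 1, (χ : G → ℂ) g = (v11 (dg χ) : ℂ) := fun g hg => by
    obtain ⟨hg1, hgD⟩ := Finset.mem_erase.1 hg
    have hgD' := (Finset.mem_filter.1 hgD).2
    have ho : orderOf g = 11 := by
      have := Subgroup.orderOf_dvd_natCard _ hgD'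
      rw [hcardD] at this
      exact ((Nat.dvd_prime (by norm_num)).1 this).resolve_left fun h => hg1 (orderOf_eq_one_iff.1 h)
    exact (column_of_order_eleven X ho).1 χ
  have hS : ∑ g ∈ sD, (χ : G → ℂ) g = (((dg χ : ℤ) + 10 * v11 (dg χ) : ℤ) : ℂ) := by
    rw [← Finset.add_sum_erase _ _ (by simp [sD, one_mem] : (1 : G) ∈ sD), Finset.sum_congr rfl hval,
      Finset.sum_const, Finset.card_erase_of_mem (by simp [sD, one_mem]), hsD, apply_one_eq_charDegree]
    simp [nsmul_eq_mul, mul_comm]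
  obtain ⟨a, ha⟩ := MEleven.exists_nat_sum χ A
  obtain ⟨d, hd⟩ := MEleven.exists_nat_sum χ D
  have had := fix_mono χ (fun g hg => (hmem g).2 (Or.inl hg)) ha hd
  rw [hsum, hcardD] at hd
  change ∑ g ∈ sD, (χ : G → ℂ) g = _ at hd
  rw [hsum, hcardA] at ha
  change ∑ g ∈ sA, (χ : G → ℂ) g = _ at ha
  rw [hA, Finset.sum_union hdisj, Finset.sum_image (fun _ _ _ _ h => mul_left_cancel h),
    Finset.sum_congr rfl hconj, Finset.sum_const, hsD, hS] at ha
  rw [hS] at hd
  have h1 : (dg χ : ℤ) + 10 * v11 (dg χ) + 11 * t = 22 * (a : ℤ) := by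
    simp only [nsmul_eq_mul] at ha
    have h' : (((dg χ : ℤ) + 10 * v11 (dg χ) + 11 * t : ℤ) : ℂ) = ((22 * (a : ℤ) : ℤ) : ℂ) := by
      push_cast at ha ⊢
      linear_combination ha
    exact_mod_cast h'
  have h2 : (dg χ : ℤ) + 10 * v11 (dg χ) = 11 * (d : ℤ) := by exact_mod_cast hd
  omega

end Cfsg.Lib.MTwentyFour.Local
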