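import Cfsg.Agent.Lib.MTwentyFour.Local.Checks

/-!
Finite checks for the principal families at 5 and 7 of a simple group of order 244823040.
-/

set_option autoImplicit false

namespace Cfsg.Lib.MTwentyFour.Local

open Cfsg.Lib.MTwentyFour.Eleven (dv isq notSq cands xw excOk)
open Cfsg.Lib.MTwentyFour.Search (ord24 w23 v11 isExc)

/-- The signed mean value at an element of order 11. -/
def yw (x : ℤ) : ℤ := if (0 : ℤ) ≤ x then v11 x.natAbs else -(v11 x.natAbs)

/-- The residue of a degree modulo 11. -/
def r11 (d : ℕ) : Bool := d % 11 == 0 || d % 11 == 1 || d % 11 == 10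

/-- The candidates for a member. -/
def mems (p f dmin M : ℕ) : List ℤ := (cands p f dmin M false).filter fun s => r11 s.natAbs

/-- The possible principal families at 5. -/
def famFive : List (ℤ × ℤ × ℤ × ℤ) :=
  let L := mems 5 1 10 (ord24 / 10)
  L.flatMap fun a => (L.filter fun x => decide (a ≤ x)).flatMap fun b =>
    (L.filter fun x => decide (b ≤ x)).flatMap fun c =>
      if decide (c ≤ -(1 + a + b + c)) && L.contains (-(1 + a + b + c)) &&
          (2 + xw a + xw b + xw c + xw (-(1 + a + b + c)) == 0) &&
          (1 + yw a + yw b + yw c + yw (-(1 + a + b + c)) == 0) &&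
          excOk [a, b, c, -(1 + a + b + c)] then
        [(a, b, c, -(1 + a + b + c))] else []

/-- The possible multiples of a signed member in the product of the singular sums at 5 and 7. -/
def cross (e : ℕ) (s : ℤ) : List ℤ :=
  let d := s.natAbs
  let g : ℤ := if (0 : ℤ) ≤ s then 1 else -1
  0 :: ((if d % 7 == 1 then [6 * g] else []) ++ (if d % 7 == 6 then [-(6 * g)] else []) ++
    (if d % 7 == 7 - e then [(e : ℤ) * g] else []) ++ (if d % 7 == e then [-((e : ℤ) * g)] else []))

/-- No choice cancels the trivial character in the product of the sums. -/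
def crossKill : ℤ × ℤ × ℤ × ℤ → Bool
  | (a, b, c, l) => [2, 3, 6].all fun e => (cross e a).all fun x => (cross e b).all fun y =>
      (cross e c).all fun z => (cross e l).all fun w => !(6 + x + y + z + w == 0)

/-- The cofactors at 5 allowed by a family. -/
def qsFor : ℤ × ℤ × ℤ × ℤ → List ℕ
  | (a, b, c, l) => (dv 48964608).filter fun q =>
      q % 2 == 0 && 48964608 % (4 * q) == 0 && 48964608 / (4 * q) % 5 == 1 &&
        48964608 / q % a.natAbs == 0 && 48964608 / q % b.natAbs == 0 &&
        48964608 / q % c.natAbs == 0 && 48964608 / q % l.natAbs == 0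

/-- The signed values at an involution inverting an element of order 11 and commuting with one of order 5. -/
def svals (C : ℕ) (s : ℤ) : List ℤ :=
  ((vals 20 C s.natAbs).filter fun u =>
      decide (11 * (u.natAbs : ℤ) ≤ (s.natAbs : ℤ) + 10 * v11 s.natAbs)).map
    fun u => if (0 : ℤ) ≤ s then u else -u

/-- No values at the involution satisfy the relation, the bounds and the square condition. -/
def rowKill : ℤ × ℤ × ℤ × ℤ → Bool
  | (a, b, c, l) => (qsFor (a, b, c, l)).all fun q => (cents 5).all fun C =>
      let U₄ := svals C l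
      (svals C a).all fun u₁ => (svals C b).all fun u₂ => (svals C c).all fun u₃ =>
        !(decide (1 + u₁ * u₁ + u₂ * u₂ + u₃ * u₃ + (1 + u₁ + u₂ + u₃) * (1 + u₁ + u₂ + u₃) ≤ (C : ℤ)) &&
          U₄.contains (-(1 + u₁ + u₂ + u₃))) ||
        let R : ℤ := (q : ℤ) * (ord24 : ℤ) * (a * b * c * l + u₁ * u₁ * b * c * l + a * u₂ * u₂ * c * l +
          a * b * u₃ * u₃ * l + a * b * c * ((1 + u₁ + u₂ + u₃) * (1 + u₁ + u₂ + u₃)))
        let D : ℤ := 5 * ((C : ℤ) * (C : ℤ)) * (a * b * c * l)
        !(R % D == 0) || notSq (R / D)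

/-- The family of M24 at 5. -/
def trueFive : ℤ × ℤ × ℤ × ℤ := (-5544, -2024, 1771, 5796)

def principalFiveTest : Bool :=
  famFive.all fun f => ((f == trueFive || crossKill f) && (qsFor f).all fun q => !(q % 7 == 0)) || rowKill f

theorem principal_five_check : principalFiveTest = true := by decide +kernel

end Cfsg.Lib.MTwentyFour.Local

namespace Cfsg.Lib.MTwentyFour.Local

open Cfsg.Lib.MTwentyFour.Eleven (xw)
open Cfsg.Lib.MTwentyFour.Search (ord24)

/-- The only completion of 1 and 2024 to a family at 7 with automizer of order 3. -/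
def principalSevenTest : Bool :=
  (mems 7 1 2 (ord24 / 7)).all fun b =>
    !((mems 7 4 2 (ord24 / 7)).contains (-(2025 + b))) ||
      (b == -1035 && -(2025 + b) == -990)

theorem principal_seven_check : principalSevenTest = true := by decide +kernel

end Cfsg.Lib.MTwentyFour.Local
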