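import Cfsg.Agent.Lib.MTwentyFour.Local.Fams
import Cfsg.Agent.Lib.MTwentyFour.Local.Inverter
import Cfsg.Agent.Lib.MTwentyFour.Local.PrincipalChecks

/-!
The principal family at 5 of a simple group of order 244823040 and the one at 7 when the automizer at 7
is not of order 6.
-/

set_option autoImplicit false
set_option linter.style.haveILetI false
set_option linter.unusedSectionVars false
set_option maxHeartbeats 1000000

namespace Cfsg.Lib.MTwentyFour.Local

open Cfsg Cfsg.Lib Cfsg.Lib.Block Cfsg.Lib.MTwentyFour.Eleven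
open Cfsg.Lib.MTwentyFour.Search (ord24 v11 isExc)
open scoped ComplexConjugate Classical

universe u

noncomputable local instance (priority := high) fintypeSubgroupPrincipal {A : Type u}
    [Group A] [Fintype A] (H : Subgroup A) : Fintype H := Fintype.ofFinite H

local notation "C[" P "]" => Subgroup.centralizer (SetLike.coe P)

variable {G : Type u} [Group G] [Fintype G] [IsSimpleGroup G] (X : Ctx G)
include X

theorem yw_sd {p : ℕ} [Fact p.Prime] {P : Sylow p G} {e : ℕ} (S : Small.Shape P e) {χ : IrrCharacter G}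
    (hχ : χ ∈ S.Z) : yw (sd S χ) = S.σ χ * v11 (dg χ) := by
  have hpos := Block.charDegree_pos χ
  rcases S.sign χ hχ with h | h
  · simp [yw, sd, h]
  · have hpos' : (0 : ℤ) < (dg χ : ℤ) := Int.natCast_pos.2 hpos
    rw [yw, if_neg (by rw [sd, h]; omega), sd, h]
    simp

theorem sum_yw {p : ℕ} [Fact p.Prime] {P : Sylow p G} {e : ℕ} (S : Small.Shape P e) (hp : p ≠ 11) :
    ∑ χ ∈ S.Z, yw (sd S χ) = 0 := by
  obtain ⟨y, -, -, hy, -⟩ := exists_inverter X
  haveI : Fact (Nat.Prime 11) := ⟨by norm_num⟩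
  have hcol := (column_of_order_eleven X hy).1
  have h := S.rel y (fun h => hp
    ((Nat.prime_dvd_prime_iff_eq Fact.out (by norm_num : Nat.Prime 11)).1 (hy ▸ h)))
  have h' : ((∑ χ ∈ S.Z, yw (sd S χ) : ℤ) : ℂ) = 0 := by
    rw [Int.cast_sum, ← h]
    exact Finset.sum_congr rfl fun χ hχ => by rw [yw_sd X S hχ, Int.cast_mul, hcol]
  exact_mod_cast h'

theorem mem_mems {p : ℕ} [Fact p.Prime] {P : Sylow p G} {e : ℕ} (S : Small.Shape P e) (hodd : p % 2 = 1)
    {χ : IrrCharacter G} (hχ : χ ∈ S.Z) {f dmin M : ℕ} (hf : f < p) (hf0 : 0 < f)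
    (hmod : sd S χ ≡ (f : ℤ) [ZMOD p]) (hmin : dmin ≤ dg χ) (hM : dg χ ∣ M) (hM' : M ∣ ord24) :
    sd S χ ∈ mems p f dmin M := by
  obtain ⟨y, -, -, hy, -⟩ := exists_inverter X
  haveI : Fact (Nat.Prime 11) := ⟨by norm_num⟩
  refine List.mem_filter.2 ⟨sd_mem_cands S X hodd hχ hf hf0 hmod hmin hM hM' (fun h => absurd h (by decide)), ?_⟩
  rw [sd_natAbs S hχ]
  simp only [r11, Bool.or_eq_true, beq_iff_eq]
  rcases (column_of_order_eleven X hy).2 χ with h | h | h <;> omega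

/-- The Sylow 5-subgroup commuting with the involution, its family and its cofactor. -/
theorem exists_five [Fact (Nat.Prime 5)] {f z : G} (hf : orderOf f = 5) (hz : orderOf z = 2)
    (hfz : Commute f z) :
    ∃ (Q : Sylow 5 G) (q : ℕ) (_ : Small.Shape Q 4), Nat.card C[(Q : Subgroup G)] = 5 * q ∧
      z ∈ C[(Q : Subgroup G)] ∧ 2 ∣ q ∧ 4 * q ∣ 48964608 ∧ 48964608 / (4 * q) % 5 = 1 := by
  have hd : 5 ∣ Nat.card G := X.hcard ▸ by norm_num
  have hsq : ¬ 5 * 5 ∣ Nat.card G := X.hcard ▸ by norm_num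
  obtain ⟨Q, hQ, hfQ, hf1⟩ := exists_sylow hd hsq hf
  have hzQ : z ∈ C[(Q : Subgroup G)] := by
    rw [← centralizer_singleton_eq hQ hfQ hf1]
    exact Subgroup.mem_centralizer_singleton_iff.2 hfz.eq.symm
  obtain ⟨q, hq⟩ : 5 ∣ Nat.card C[(Q : Subgroup G)] := by
    have := Subgroup.card_dvd_of_le (le_centralizer_self hQ)
    rwa [hQ] at this
  have h2q : 2 ∣ q := by
    have := Subgroup.orderOf_dvd_natCard _ hzQ
    rw [hz, hq] at this
    exact Nat.Coprime.dvd_of_dvd_mul_left (by norm_num) this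
  have h11q : ¬ 11 ∣ q := fun h => by
    haveI : Fact (Nat.Prime 11) := ⟨by norm_num⟩
    obtain ⟨⟨u, hu⟩, huo⟩ := exists_prime_orderOf_dvd_card' (G := C[(Q : Subgroup G)]) 11
      (hq ▸ dvd_mul_of_dvd_right h 5)
    rw [Subgroup.orderOf_mk] at huo
    obtain ⟨R, hR, huR, hu1⟩ := exists_sylow (q := 11) (X.hcard ▸ by norm_num) (X.hcard ▸ by norm_num) huo
    have hfC : f ∈ C[(R : Subgroup G)] := by
      rw [← centralizer_singleton_eq hR huR hu1]
      exact Subgroup.mem_centralizer_singleton_iff.2 (Subgroup.mem_centralizer_iff.1 hu f hfQ)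
    have := Subgroup.orderOf_dvd_natCard _ hfC
    rw [hf, (local_eleven (X.hcard.trans (by norm_num)) R).1] at this
    norm_num at this
  obtain ⟨hed, he1, -⟩ := Order175560.relIndex_centralizer hd hsq (by rw [X.hcard]; norm_num) Q
  set e := (C[(Q : Subgroup G)]).relIndex (Subgroup.normalizer ((Q : Subgroup G) : Set G)) with he
  obtain ⟨S⟩ := Small.exists_shape (p := 5) (by norm_num) Q hQ he.symm he1
  have hn : Nat.card (Sylow 5 G) * (e * q) = 48964608 := by
    have h := Small.card_normalizer_mul Q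
    rw [card_normalizer hQ hq he.symm, X.hcard] at h
    simp only [ord24] at h
    nlinarith
  have hn5 : Nat.card (Sylow 5 G) % 5 = 1 := by
    have := card_sylow_modEq_one 5 G
    rwa [Nat.ModEq, Nat.one_mod] at this
  have he24 : e = 2 ∨ e = 4 := by
    have := Nat.le_of_dvd (by norm_num) hed
    interval_cases e <;> norm_num at hed <;> norm_num
  have hq1 : q ≠ 1 := by rintro rfl; norm_num at h2q
  rcases he24 with he' | he' <;> clear_value e <;> subst he'
  · exfalso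
    obtain ⟨m, hm⟩ : 5 * q ∣ ord24 := X.hcard ▸ hq ▸ Subgroup.card_subgroup_dvd_card _
    obtain ⟨q', rfl⟩ := h2q
    refine no_two X S (Or.inl rfl) (M := ord24 / 10) (qs := (dv (ord24 / 10)).filter fun q => q % 11 != 0)
      hq hq1 (List.mem_filter.2 ⟨Eleven.mem_dv (by norm_num) ⟨Nat.card (Sylow 5 G), ?_⟩, ?_⟩) (by norm_num)
      (fun χ hχ => (deg_dvd_mul S hq hχ (X.hcard.trans hm)).trans ⟨q', ?_⟩) hsq pair_five
    · rw [show ord24 / 10 = 24482304 by norm_num]; nlinarith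
    · simp only [bne_iff_ne]; exact fun h => h11q (Nat.dvd_of_mod_eq_zero h)
    · rw [show ord24 / 10 = 24482304 by norm_num]; simp only [ord24] at hm; nlinarith
  refine ⟨Q, q, S, hq, hzQ, h2q, ⟨_, by rw [mul_comm]; exact hn.symm⟩, ?_⟩
  have hpos : 0 < 4 * q := Nat.pos_of_ne_zero fun h => by rw [h, mul_zero] at hn; norm_num at hn
  rw [← hn, Nat.mul_div_cancel _ hpos]
  exact hn5

variable [Fact (Nat.Prime 5)] [Fact (Nat.Prime 7)] {Q : Sylow 5 G} {q : ℕ} (S5 : Small.Shape Q 4)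
  (hQ : Nat.card C[(Q : Subgroup G)] = 5 * q)
include hQ

theorem dvd_five {χ : IrrCharacter G} (hχ : χ ∈ S5.Z) : dg χ * q ∣ 48964608 := by
  obtain ⟨m, hm⟩ : 5 * q ∣ 244823040 := hQ ▸ card24 X ▸ Subgroup.card_subgroup_dvd_card _
  have h2 : q * m = 48964608 := by
    refine Nat.eq_of_mul_eq_mul_left (show 0 < 5 by norm_num) ?_
    rw [← mul_assoc, ← hm]
  rw [← h2, mul_comm (dg χ)]
  exact Nat.mul_dvd_mul_left _ (deg_dvd_mul S5 hQ hχ (m := m) (by rw [card24 X, hm]))

/-- The singular sums at 5 and 7 are orthogonal when no element of order 35 exists. -/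
theorem cross_sum (h7 : ¬ 7 ∣ q) {P : Sylow 7 G} {e c : ℕ} (S7 : Small.Shape P e)
    (hP : Nat.card C[(P : Subgroup G)] = 7 * c) :
    ∑ χ ∈ S5.Z, (S5.σ χ : ℂ) * conj (sSum P χ) = 0 := by
  have hnc : ∀ g ∈ sing Q, ∀ h ∈ sing P, ¬ IsConj g h := fun g hg h hh hc => by
    obtain ⟨hgC, -⟩ := mem_sing.1 hg
    obtain ⟨-, hh7⟩ := mem_sing.1 hh
    obtain ⟨x, rfl⟩ := isConj_iff.1 hc
    rw [orderOf_conj'] at hh7
    have := hh7.trans (Subgroup.orderOf_dvd_natCard _ hgC)
    rw [hQ] at this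
    exact h7 ((Nat.Coprime.dvd_of_dvd_mul_left (by norm_num) this))
  have hall : ∑ χ : IrrCharacter G, sSum Q χ * conj (sSum P χ) = 0 := by
    simp only [sSum, map_sum, Finset.sum_mul_sum]
    rw [Finset.sum_comm]
    refine Finset.sum_eq_zero fun g hg => ?_
    rw [Finset.sum_comm]
    refine Finset.sum_eq_zero fun h hh => ?_
    have := Char.column_orthogonality g h
    rwa [if_neg (hnc g hg h hh)] at this
  have hq0 : (4 * q : ℕ) ≠ 0 := fun h => by
    have := hQ
    rw [show q = 0 by omega, mul_zero] at this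
    exact Nat.card_pos.ne' this
  have hY : S5.Y = {S5.θ} := by
    refine Finset.eq_singleton_iff_unique_mem.2 ⟨S5.θ_mem, fun w hw => ?_⟩
    exact Finset.card_le_one.1 (le_of_eq (show S5.Y.card = 1 by rw [S5.card_Y])) w hw _ S5.θ_mem
  rw [← Finset.sum_subset (Finset.subset_univ S5.Z) (fun χ _ hχ => by
    by_cases h : sSum Q χ = 0
    · rw [h, zero_mul]
    · rcases mem_of_sSum_ne S5.card_P S5 hQ h with h | h
      · exact absurd (S5.mem_Z.2 (Or.inr h)) hχ
      · rw [hY, Finset.mem_singleton] at h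
        exact absurd (S5.mem_Z.2 (Or.inl h)) hχ)] at hall
  rw [Finset.sum_congr rfl (g := fun χ => ((4 * q : ℕ) : ℂ) * ((S5.σ χ : ℂ) * conj (sSum P χ))) fun χ hχ => by
    rw [sSum_Z S5.card_P S5 hQ hχ, show (5 - 1) * q = 4 * q from rfl, ite_self, mul_assoc], ← Finset.mul_sum] at hall
  exact (mul_eq_zero.1 hall).resolve_left (Nat.cast_ne_zero.2 hq0)

/-- The multiple of a member in the product of the sums. -/
theorem exists_cross {P : Sylow 7 G} {e c : ℕ} (S7 : Small.Shape P e)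
    (hP : Nat.card C[(P : Subgroup G)] = 7 * c) {χ : IrrCharacter G} (hχ : χ ∈ S5.Z) :
    ∃ k ∈ cross e (sd S5 χ), (S5.σ χ : ℂ) * conj (sSum P χ) = (c : ℂ) * (k : ℂ) ∧
      (k ≠ 0 → χ ∈ S7.X ∨ χ ∈ S7.Y) := by
  by_cases h0 : sSum P χ = 0
  · exact ⟨0, by simp [cross], by simp [h0], fun h => absurd rfl h⟩
  have hpos : (0 : ℤ) < (dg χ : ℤ) := Int.natCast_pos.2 (Block.charDegree_pos χ)
  have hg : S5.σ χ = if (0 : ℤ) ≤ sd S5 χ then 1 else -1 := by
    rcases S5.sign χ hχ with h | h <;> rw [sd, h]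
    · rw [if_pos (by omega)]
    · rw [if_neg (by omega)]
  have hd : (sd S5 χ).natAbs = dg χ := sd_natAbs S5 hχ
  rcases mem_of_sSum_ne S7.card_P S7 hP h0 with h | h
  · have hc := S7.cong χ h
    change S7.σ χ * (dg χ : ℤ) ≡ 1 [ZMOD 7] at hc
    rcases S7.sign χ (S7.mem_Z.2 (Or.inr h)) with hs | hs <;> rw [hs] at hc
    · have hd7 : dg χ % 7 = 1 := by unfold Int.ModEq at hc; omega
      refine ⟨6 * S5.σ χ, by simp [cross, hd, hd7, ← hg], ?_, fun _ => Or.inl h⟩
      rw [sSum_X S7.card_P S7 hP h, hs]; simp [map_ofNat]; ring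
    · have hd7 : dg χ % 7 = 6 := by unfold Int.ModEq at hc; omega
      refine ⟨-(6 * S5.σ χ), by simp [cross, hd, hd7, ← hg], ?_, fun _ => Or.inl h⟩
      rw [sSum_X S7.card_P S7 hP h, hs]; simp [map_ofNat]; ring
  · have hdY := deg_Y S7 h
    have hc := S7.congθ
    change S7.σ S7.θ * (dg S7.θ : ℤ) ≡ -(e : ℤ) [ZMOD 7] at hc
    rw [← hdY] at hc
    have he7 : e < 7 := S7.e_lt
    have he0 := S7.e_pos
    rcases S7.sign S7.θ (S7.mem_Z.2 (Or.inl rfl)) with hs | hs <;> rw [hs] at hc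
    · have hd7 : dg χ % 7 = 7 - e := by unfold Int.ModEq at hc; omega
      refine ⟨(e : ℤ) * S5.σ χ, by simp [cross, hd, hd7, ← hg], ?_, fun _ => Or.inr h⟩
      rw [(sSum_props S7.card_P S7 hP).1 χ h, hs]; simp; ring
    · have hd7 : dg χ % 7 = e := by unfold Int.ModEq at hc; omega
      refine ⟨-((e : ℤ) * S5.σ χ), by simp [cross, hd, hd7, ← hg], ?_, fun _ => Or.inr h⟩
      rw [(sSum_props S7.card_P S7 hP).1 χ h, hs]; simp; ring

end Cfsg.Lib.MTwentyFour.Local
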