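import Cfsg.Agent.Lib.MTwentyFour.Local.Principal

/-!
The principal family at 5 is {1, 5796, -2024, -5544, 1771}.
-/

set_option autoImplicit false
set_option linter.style.haveILetI false
set_option linter.unusedSectionVars false
set_option maxHeartbeats 1000000

namespace Cfsg.Lib.MTwentyFour.Local

open Cfsg Cfsg.Lib Cfsg.Lib.Block Cfsg.Lib.MTwentyFour.Eleven
open Cfsg.Lib.MTwentyFour.Search (ord24 v11 isExc)
open scoped ComplexConjugate Classical

universe u

noncomputable local instance (priority := high) fintypeSubgroupPrincipalFive {A : Type u}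
    [Group A] [Fintype A] (H : Subgroup A) : Fintype H := Fintype.ofFinite H

local notation "C[" P "]" => Subgroup.centralizer (SetLike.coe P)

variable {G : Type u} [Group G] [Fintype G] [IsSimpleGroup G] [Fact (Nat.Prime 5)] [Fact (Nat.Prime 7)]
  (X : Ctx G)
include X

/-- The data of the principal family at 5. -/
def FiveFam (Q : Sylow 5 G) (q : ℕ) (S : Small.Shape Q 4) (χA χa χB χE : IrrCharacter G) : Prop :=
  Nat.card C[(Q : Subgroup G)] = 5 * q ∧ 2 ∣ q ∧ ¬ 7 ∣ q ∧
    dg χA = 5796 ∧ dg χa = 2024 ∧ dg χB = 5544 ∧ dg χE = 1771 ∧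
    S.Z = {Small.one' G, χA, χa, χB, χE} ∧ S.σ χA = 1 ∧ S.σ χa = -1 ∧ S.σ χB = -1 ∧ S.σ χE = 1

/-- The trivial character contributes six times the cofactor at 7. -/
theorem sSum_one_seven {P : Sylow 7 G} {e c : ℕ} (S7 : Small.Shape P e)
    (hP : Nat.card C[(P : Subgroup G)] = 7 * c) : sSum P (Small.one' G) = ((6 * c : ℕ) : ℂ) := by
  haveI : Fact (Nat.Prime 11) := ⟨by norm_num⟩
  rw [sSum_one S7.card_P hP]

theorem exists_five_family : ∃ (Q : Sylow 5 G) (q : ℕ) (S : Small.Shape Q 4)
    (χA χa χB χE : IrrCharacter G), FiveFam Q q S χA χa χB χE := by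
  obtain ⟨y, z, f, hy, hz, hf, hinv, hfz⟩ := exists_inverter X
  obtain ⟨Q, q, S, hQ, hzQ, h2q, hq4, hqn⟩ := exists_five X hf hz hfz
  have hq1 : q ≠ 1 := by rintro rfl; norm_num at h2q
  set T := S.Z.erase (Small.one' G) with hT
  obtain ⟨a, b, c, l, hab, hbc, hcl, hnd, hmem, hsum⟩ := exists_quad T
    (by rw [hT, Finset.card_erase_of_mem S.one_mem, S.card_Z]) (sd S)
  have hin : ∀ χ ∈ [a, b, c, l], χ ∈ S.Z ∧ χ ≠ Small.one' G := fun χ hχ => by
    obtain ⟨hne, hZ⟩ := Finset.mem_erase.1 ((hmem χ).2 hχ)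
    exact ⟨hZ, hne⟩
  have hall : ∀ g : IrrCharacter G → ℤ,
      ∑ χ ∈ S.Z, g χ = g (Small.one' G) + (g a + g b + g c + g l) := fun g => by
    rw [← Finset.add_sum_erase _ _ S.one_mem, ← hT, hsum]
  have hM : ∀ χ ∈ [a, b, c, l], sd S χ ∈ mems 5 1 10 (ord24 / 10) := fun χ hχ => by
    obtain ⟨hZ, hne⟩ := hin χ hχ
    refine mem_mems X S (by norm_num) hZ (by norm_num) one_pos (sd_modEq_Z S (by norm_num) hZ)
      (deg_ge S X (X.hcard ▸ by norm_num) hQ hq1 hZ hne) ?_ (by norm_num)
    obtain ⟨q', rfl⟩ := h2q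
    obtain ⟨k, hk⟩ := dvd_five X S hQ hZ
    exact ⟨q' * k, by rw [show ord24 / 10 = 24482304 by norm_num]; linarith⟩
  obtain ⟨hxs, -, -⟩ := column_facts S X (p := 5) (by norm_num)
  have hys := sum_yw X S (by norm_num)
  have hds : ∑ χ ∈ S.Z, sd S χ = 0 := S.rel_deg
  rw [hall, sd_one] at hds
  rw [hall, sd_one, show xw 1 = 2 by decide] at hxs
  rw [hall, sd_one, show yw 1 = 1 by decide] at hys
  have hl : sd S l = -(1 + sd S a + sd S b + sd S c) := by omega
  have hexc : excOk ([a, b, c, l].map (sd S)) = true := excOk_of S X (by norm_num) hnd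
    (fun χ hχ => (hin χ hχ).1) fun χ hχ he => (hmem χ).1 (Finset.mem_erase.2 ⟨fun e => by
      rw [e, show dg (Small.one' G) = 1 from Small.charDegree_one'] at he
      exact absurd he (by decide), hχ⟩)
  set F : ℤ × ℤ × ℤ × ℤ := (sd S a, sd S b, sd S c, sd S l) with hF
  have hfam : F ∈ famFive := by
    refine List.mem_flatMap.2 ⟨_, hM a (by simp), List.mem_flatMap.2 ⟨_, List.mem_filter.2
      ⟨hM b (by simp), by simpa using hab⟩, List.mem_flatMap.2 ⟨_, List.mem_filter.2
      ⟨hM c (by simp), by simpa using hbc⟩, ?_⟩⟩⟩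
    rw [← hl]
    have hlc := hM l (by simp)
    rw [if_pos]
    · simp [hF]
    · simp only [Bool.and_eq_true, decide_eq_true_eq, List.contains_iff_mem, beq_iff_eq]
      exact ⟨⟨⟨⟨hcl, hlc⟩, by omega⟩, by omega⟩, by simpa using hexc⟩
  have hqF : q ∈ qsFor F := by
    have h967 : q ∣ 48964608 := (dvd_mul_left q 4).trans hq4
    have hdd : ∀ χ ∈ [a, b, c, l], 48964608 / q % (sd S χ).natAbs = 0 := fun χ hχ => by
      rw [sd_natAbs S (hin χ hχ).1]
      refine Nat.mod_eq_zero_of_dvd ?_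
      obtain ⟨k, hk⟩ := dvd_five X S hQ (hin χ hχ).1
      refine ⟨k, Nat.div_eq_of_eq_mul_left (Nat.pos_of_ne_zero ?_) (by rw [hk]; ring)⟩
      rintro rfl; simp at hk
    refine List.mem_filter.2 ⟨Eleven.mem_dv (by norm_num) h967, ?_⟩
    simp only [hF, Bool.and_eq_true, beq_iff_eq]
    exact ⟨⟨⟨⟨⟨⟨Nat.mod_eq_zero_of_dvd h2q, Nat.mod_eq_zero_of_dvd hq4⟩, hqn⟩, hdd a (by simp)⟩,
      hdd b (by simp)⟩, hdd c (by simp)⟩, hdd l (by simp)⟩
  have htest := List.all_eq_true.1 principal_five_check F hfam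
  rw [Bool.or_eq_true, Bool.and_eq_true, Bool.or_eq_true] at htest
  rcases htest with ⟨htrue | hcross, h7⟩ | hrow
  · have h7' : ¬ 7 ∣ q := fun h => by
      have := List.all_eq_true.1 h7 q hqF
      simp [Nat.mod_eq_zero_of_dvd h] at this
    rw [beq_iff_eq, hF, trueFive] at htrue
    simp only [Prod.mk.injEq] at htrue
    obtain ⟨ha, hb, hc, hl'⟩ := htrue
    have key : ∀ χ ∈ [a, b, c, l], ∀ d : ℕ, ∀ s : ℤ, (s = 1 ∨ s = -1) → sd S χ = s * d → 0 < d →
        dg χ = d ∧ S.σ χ = s := fun χ hχ d s hs h hd => by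
      have hd' := sd_natAbs S (hin χ hχ).1
      have hpos := Block.charDegree_pos χ
      rw [sd] at h hd'
      rcases S.sign χ (hin χ hχ).1 with e | e <;> rw [e] at h ⊢ <;> rcases hs with rfl | rfl <;> omega
    obtain ⟨da, sa⟩ := key a (by simp) 5544 (-1) (Or.inr rfl) (by rw [ha]; norm_num) (by norm_num)
    obtain ⟨db, sb⟩ := key b (by simp) 2024 (-1) (Or.inr rfl) (by rw [hb]; norm_num) (by norm_num)
    obtain ⟨dc, sc⟩ := key c (by simp) 1771 1 (Or.inl rfl) (by rw [hc]; norm_num) (by norm_num)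
    obtain ⟨dl', sl⟩ := key l (by simp) 5796 1 (Or.inl rfl) (by rw [hl']; norm_num) (by norm_num)
    refine ⟨Q, q, S, l, b, a, c, hQ, h2q, h7', dl', db, da, dc, ?_, sl, sb, sa, sc⟩
    rw [← Finset.insert_erase S.one_mem, ← hT]
    ext χ
    simp only [Finset.mem_insert, Finset.mem_singleton, hmem, List.mem_cons, List.not_mem_nil, or_false]
    constructor <;> rintro (h | h | h | h | h) <;> simp [h]
  · exfalso
    have h7' : ¬ 7 ∣ q := fun h => by
      have := List.all_eq_true.1 h7 q hqF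
      simp [Nat.mod_eq_zero_of_dvd h] at this
    obtain ⟨P⟩ : Nonempty (Sylow 7 G) := inferInstance
    have hd : 7 ∣ Nat.card G := X.hcard ▸ by norm_num
    have hsq : ¬ 7 * 7 ∣ Nat.card G := X.hcard ▸ by norm_num
    obtain ⟨hed, he1, -⟩ := Order175560.relIndex_centralizer hd hsq (by rw [X.hcard]; norm_num) P
    set e := (C[(P : Subgroup G)]).relIndex (Subgroup.normalizer ((P : Subgroup G) : Set G)) with he
    obtain ⟨S7⟩ := Small.exists_shape (p := 7) (by norm_num) P (sylow_seven X P) he.symm he1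
    obtain ⟨c7, hP⟩ : 7 ∣ Nat.card C[(P : Subgroup G)] := by
      have := Subgroup.card_dvd_of_le (le_centralizer_self (sylow_seven X P))
      rwa [sylow_seven X P] at this
    have hcs := cross_sum X S hQ h7' S7 hP
    obtain ⟨ka, hka, ea, -⟩ := exists_cross X S hQ S7 hP (hin a (by simp)).1
    obtain ⟨kb, hkb, eb, -⟩ := exists_cross X S hQ S7 hP (hin b (by simp)).1
    obtain ⟨kc, hkc, ec, -⟩ := exists_cross X S hQ S7 hP (hin c (by simp)).1
    obtain ⟨kl, hkl, el, -⟩ := exists_cross X S hQ S7 hP (hin l (by simp)).1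
    have hTs : ∀ g : IrrCharacter G → ℂ, ∑ χ ∈ T, g χ = g a + g b + g c + g l := fun g => by
      have hTeq : T = {a, b, c, l} := by
        ext χ; simp [hmem]
      simp only [List.nodup_cons, List.mem_cons, List.not_mem_nil, or_false, not_or, List.nodup_nil,
        and_true, not_false_eq_true] at hnd
      rw [hTeq, Finset.sum_insert (by simp [hnd.1]), Finset.sum_insert (by simp [hnd.2.1]),
        Finset.sum_insert (by simp [hnd.2.2]), Finset.sum_singleton]
      ring
    rw [← Finset.add_sum_erase _ _ S.one_mem, ← hT, hTs, ea, eb, ec, el, sSum_one_seven X S7 hP,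
      S.sign_one] at hcs
    have hc0 : (c7 : ℂ) ≠ 0 := Nat.cast_ne_zero.2 fun h => by
      rw [h, mul_zero] at hP; exact Nat.card_pos.ne' hP
    have hz0 : ((6 + ka + kb + kc + kl : ℤ) : ℂ) = 0 := by
      refine (mul_eq_zero.1 (show (c7 : ℂ) * ((6 + ka + kb + kc + kl : ℤ) : ℂ) = 0 from ?_)).resolve_left hc0
      push_cast at hcs ⊢
      rw [map_mul, map_natCast, map_ofNat] at hcs
      linear_combination hcs
    have hz' : 6 + ka + kb + kc + kl = 0 := by exact_mod_cast hz0
    have he' : e ∈ [2, 3, 6] := by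
      have := Nat.le_of_dvd (by norm_num) hed
      interval_cases e <;> norm_num at hed <;> simp
    simp only [crossKill, hF] at hcross
    have := List.all_eq_true.1 (List.all_eq_true.1 (List.all_eq_true.1 (List.all_eq_true.1
      (List.all_eq_true.1 hcross e he') ka hka) kb hkb) kc hkc) kl hkl
    simp [hz'] at this
  · exfalso
    set C := Nat.card (Subgroup.centralizer ({z} : Set G)) with hCdef
    have hCs : C ∈ cents 5 := by
      refine List.mem_filter.2 ⟨Eleven.mem_dv (by norm_num) (centralizer_dvd X hz), ?_⟩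
      have h5 : 5 ∣ C := hf ▸ Subgroup.orderOf_dvd_natCard _
        (Subgroup.mem_centralizer_singleton_iff.2 hfz.eq)
      have h2 : 2 ∣ C := hz ▸ Subgroup.orderOf_dvd_natCard _ (Subgroup.mem_centralizer_singleton_iff.2 rfl)
      simp only [beq_iff_eq]
      omega
    have hsv : ∀ χ ∈ [a, b, c, l], su S z χ ∈ svals C (sd S χ) := fun χ hχ => by
      obtain ⟨hZ, -⟩ := hin χ hχ
      have hv := cast_val X hz χ
      have h20 : ((20 : ℕ) : ℤ) ∣ MTwentyTwo.intVal z χ - (dg χ : ℤ) := by
        have h4 := four_dvd X hz χ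
        have h10 := two_modEq S (by norm_num) hzQ hz hZ hv
        change ((2 * 5 : ℕ) : ℤ) ∣ MTwentyTwo.intVal z χ - (dg χ : ℤ) at h10
        omega
      refine List.mem_map.2 ⟨MTwentyTwo.intVal z χ, List.mem_filter.2 ⟨mem_vals X hz (sd_natAbs S hZ).symm rfl
        (by rw [sd_natAbs S hZ]; exact h20), ?_⟩, ?_⟩
      · rw [decide_eq_true_eq, sd_natAbs S hZ]
        exact inverted_bound X hy hz hinv χ hv
      · have hpos : (0 : ℤ) < (dg χ : ℤ) := Int.natCast_pos.2 (Block.charDegree_pos χ)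
        rcases S.sign χ hZ with h | h <;> rw [su, sd, h]
        · rw [if_pos (by omega), one_mul]
        · rw [if_neg (by omega), neg_one_mul]
    have hzp := MTwentyTwo.not_dvd_orderOf (G := G) (p := 5) Fact.out (by norm_num) hz
    have hrel := su_rel S X hz hzp
    rw [hall, su_one] at hrel
    have hlow : 1 + su S z a * su S z a + su S z b * su S z b + su S z c * su S z c +
        su S z l * su S z l ≤ (C : ℤ) := by
      have h : ∑ χ ∈ S.Z, su S z χ * su S z χ ≤ (C : ℤ) := by
        rw [hCdef, ← MTwentyTwo.sum_intVal_sq (hz ▸ pow_orderOf_eq_one z),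
          Finset.sum_congr rfl fun χ hχ => (su_sq S z hχ).symm]
        exact Finset.sum_le_sum_of_subset_of_nonneg (Finset.subset_univ _) fun _ _ _ => mul_self_nonneg _
      rw [hall, su_one] at h
      linarith
    obtain ⟨m, -, hsqr⟩ := class_square S.card_P S hQ (by norm_num) hz
    have hlu : su S z l = -(1 + su S z a + su S z b + su S z c) := by linarith
    simp only [rowKill, hF] at hrow
    have := List.all_eq_true.1 (List.all_eq_true.1 (List.all_eq_true.1 (List.all_eq_true.1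
      (List.all_eq_true.1 hrow q (hF ▸ hqF)) C hCs) _ (hsv a (by simp))) _ (hsv b (by simp))) _ (hsv c (by simp))
    set s1 := sd S a with hs1
    set s2 := sd S b with hs2
    set s3 := sd S c with hs3
    set s4 := sd S l with hs4
    set u1 := su S z a with hu1
    set u2 := su S z b with hu2
    set u3 := su S z c with hu3
    have hsl := hsv l (by simp)
    rw [← hs4, hlu] at hsl
    rw [hlu] at hlow
    simp only [Bool.or_eq_true, Bool.not_eq_true', Bool.and_eq_false_iff, decide_eq_false_iff_not,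
      beq_eq_false_iff_ne] at this
    rcases this with (h | h) | h
    · exact h (by linarith)
    · exact absurd hsl (by simpa [List.contains_iff_mem] using h)
    set D : ℤ := 5 * ((C : ℤ) * (C : ℤ)) * (s1 * s2 * s3 * s4) with hD
    set R : ℤ := (q : ℤ) * (ord24 : ℤ) * (s1 * s2 * s3 * s4 + u1 * u1 * s2 * s3 * s4 +
      s1 * u2 * u2 * s3 * s4 + s1 * s2 * u3 * u3 * s4 +
      s1 * s2 * s3 * ((1 + u1 + u2 + u3) * (1 + u1 + u2 + u3))) with hR
    have hne : ∀ χ ∈ [a, b, c, l], sd S χ ≠ 0 := fun χ hχ => sd_ne_zero S (hin χ hχ).1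
    have hD0 : D ≠ 0 := by
      have hC0 : (C : ℤ) ≠ 0 := Int.natCast_ne_zero.2 Nat.card_pos.ne'
      rw [hD]
      exact mul_ne_zero (mul_ne_zero (by norm_num) (mul_ne_zero hC0 hC0))
        (mul_ne_zero (mul_ne_zero (mul_ne_zero (hne a (by simp)) (hne b (by simp))) (hne c (by simp)))
          (hne l (by simp)))
    have hRD : R = ((m : ℤ) * (m : ℤ)) * D := by
      have htS : tSum S z = ((1 : ℂ) + (u1 : ℂ) * u1 / s1 + (u2 : ℂ) * u2 / s2 + (u3 : ℂ) * u3 / s3 +
          ((1 + u1 + u2 + u3 : ℤ) : ℂ) * (1 + u1 + u2 + u3 : ℤ) / s4) := by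
        rw [tSum_eq S X hz]
        have e4 : ∀ g : IrrCharacter G → ℂ, ∑ χ ∈ S.Z, g χ = g (Small.one' G) + (g a + g b + g c + g l) := by
          intro g
          have hTeq : T = {a, b, c, l} := by ext χ; simp [hmem]
          simp only [List.nodup_cons, List.mem_cons, List.not_mem_nil, or_false, not_or, List.nodup_nil,
            and_true, not_false_eq_true] at hnd
          rw [← Finset.add_sum_erase _ _ S.one_mem, ← hT, hTeq, Finset.sum_insert (by simp [hnd.1]),
            Finset.sum_insert (by simp [hnd.2.1]), Finset.sum_insert (by simp [hnd.2.2]), Finset.sum_singleton]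
          ring
        rw [e4, su_one, sd_one, ← hs1, ← hs2, ← hs3, ← hs4, ← hu1, ← hu2, ← hu3, hlu]
        push_cast
        ring
      rw [htS, ← hCdef, X.hcard] at hsqr
      have n1 : (s1 : ℂ) ≠ 0 := Int.cast_ne_zero.2 (hne a (by simp))
      have n2 : (s2 : ℂ) ≠ 0 := Int.cast_ne_zero.2 (hne b (by simp))
      have n3 : (s3 : ℂ) ≠ 0 := Int.cast_ne_zero.2 (hne c (by simp))
      have n4 : (s4 : ℂ) ≠ 0 := Int.cast_ne_zero.2 (hne l (by simp))
      have h' : ((R : ℤ) : ℂ) = ((((m : ℤ) * (m : ℤ)) * D : ℤ) : ℂ) := by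
        rw [hR, hD]
        field_simp at hsqr
        push_cast at hsqr ⊢
        linear_combination -hsqr
      exact_mod_cast h'
    rcases h with h | h
    · exact h (by rw [hRD]; exact Int.mul_emod_left _ _)
    · rw [hRD, Int.mul_ediv_cancel _ hD0] at h
      exact notSq_ne h m rfl

end Cfsg.Lib.MTwentyFour.Local
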