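import Cfsg.Agent.Lib.MTwentyFour.Local.Shape
import Cfsg.Agent.Lib.MTwentyFour.Roots

/-!
The centralizers of the Sylow 5- and 7-subgroups: orders 60 and 42, nonabelian modulo the Sylow
subgroup.
-/

set_option autoImplicit false
set_option linter.style.haveILetI false
set_option linter.unusedSectionVars false

namespace Cfsg.Lib.MTwentyFour.Local

open Cfsg Cfsg.Lib Cfsg.Lib.Block Cfsg.Lib.MTwentyFour.Eleven
open Cfsg.Lib.MTwentyFour.Search (ord24)
open scoped ComplexConjugate Classical

universe u

noncomputable local instance (priority := high) fintypeSubgroupSevenC {A : Type u}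
    [Group A] [Fintype A] (H : Subgroup A) : Fintype H := Fintype.ofFinite H

local notation "C[" P "]" => Subgroup.centralizer (SetLike.coe P)

variable {G : Type u} [Group G] [Fintype G] [IsSimpleGroup G] [Fact (Nat.Prime 5)] [Fact (Nat.Prime 7)]
  (X : Ctx G) (F : Fams G)
include X

/-- The cofactor at 7 is 6. -/
theorem cof_seven_eq : F.c7 = 6 := by
  obtain ⟨v, hv, hvC⟩ := exists_involution X F
  set C := Nat.card (Subgroup.centralizer ({v} : Set G)) with hC
  obtain ⟨hmem, hCs⟩ := five_facts X F hv hvC hC.symm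
  have hchk := List.all_eq_true.1 five_check C hCs
  simp only [Bool.and_eq_true] at hchk
  rw [cof_five_eq X F] at hmem
  have h := List.all_eq_true.1 hchk.2 _ hmem
  simp only [Bool.and_eq_true, Bool.not_eq_true', beq_eq_false_iff_ne] at h
  have hc := cof_seven X F
  simp only [List.mem_cons, List.not_mem_nil, or_false] at hc
  by_contra hne
  have h16 : 2 ^ 4 ∣ Nat.card C[(F.P : Subgroup G)] := by
    rw [F.hC7]
    rcases hc with e | e | e
    · exact absurd e hne
    · rw [e]; norm_num
    · rw [e]; norm_num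
  obtain ⟨a, hao, haP, haz, has, haC⟩ := exists_gen X F.P F.S7.card_P
  haveI : Fact (Nat.Prime 11) := ⟨by norm_num⟩
  have haX : F.χa ∈ F.S7.X := by
    refine (F.S7.mem_Z.1 (mem7 F).1).resolve_left fun e => ?_
    have h' := congrArg dg (e.trans (theta_eq F))
    rw [F.da, F.dc] at h'
    norm_num at h'
  have hab : (F.χa : G → ℂ) a = 1 := by
    rw [val_sing F.S7.card_P F.S7 F.hC7 haX has, F.sa']; norm_num
  have hcount := hits_count F.S5.card_P F.S5 F.hC5
    (MTwentyTwo.not_dvd_orderOf (G := G) Fact.out (by norm_num) hv) (g := a) (by rw [hao]; norm_num)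
  simp only [sum_Z5 F, F.S5.sign_one, F.sA, F.sa, F.sB, F.sE, cast_val X hv, MEleven.apply_one,
    hab, Small.one'_apply,
    value_zero (fac_seven X) F.χA (by rw [F.dA]; norm_num) (show 7 ∣ orderOf a by rw [hao]),
    value_zero (fac_seven X) F.χB (by rw [F.dB]; norm_num) (show 7 ∣ orderOf a by rw [hao]),
    value_zero (fac_seven X) F.χE (by rw [F.dE]; norm_num) (show 7 ∣ orderOf a by rw [hao]),
    show MEleven.deg F.χa = 2024 from F.da,
    show MEleven.deg (Small.one' G) = 1 from Small.charDegree_one',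
    MTwentyTwo.intVal_eq (z := v) (χ := Small.one' G) (m := 1) (by rw [Small.one'_apply]; norm_num)] at hcount
  rw [← hC, card24 X] at hcount
  push_cast at hcount
  have hM : (((hits 5 v a).card : ℤ)) * (C : ℤ) = 24192 * (2024 - (rowAt F v).a) := by
    have h' : (((((hits 5 v a).card : ℤ)) * (C : ℤ) : ℤ) : ℂ) = ((24192 * (2024 - (rowAt F v).a) : ℤ) : ℂ) := by
      simp only [rowAt]
      push_cast
      linear_combination hcount / 20
    exact_mod_cast h'
  haveI : Fact (Nat.Prime 2) := ⟨Nat.prime_two⟩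
  obtain ⟨U, hU⟩ := Sylow.exists_subgroup_card_pow_prime (G := C[(F.P : Subgroup G)]) 2 (n := 4) h16
  have hU' : Nat.card (U.map C[(F.P : Subgroup G)].subtype) = 16 := by
    rw [Subgroup.card_map_of_injective (Subgroup.subtype_injective _), hU]; norm_num
  obtain ⟨j, r, hj, hja, hr, hjr⟩ := exists_common (U.map C[(F.P : Subgroup G)].subtype)
    (IsPGroup.of_card (n := 4) (by rw [hU']; norm_num)) (q := 5) (v := v) (g := a)
    (fun u hu => by
      obtain ⟨u', -, rfl⟩ := hu
      exact (Subgroup.mem_centralizer_iff.1 u'.2 a haP).symm)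
    (fun hd => by
      rw [hU'] at hd
      obtain ⟨k, hk⟩ := hd
      refine h.1.1.1 (Int.emod_eq_zero_of_dvd ⟨(k : ℤ), ?_⟩)
      rw [← hM, hk]; push_cast; ring)
  obtain ⟨i, hi, hiC, s, hs, his⟩ := five_of_common X F hj hr hjr hao hja
  obtain ⟨hmem', hDs⟩ := five_facts X F hi hiC rfl
  have hchk' := List.all_eq_true.1 five_check _ hDs
  simp only [Bool.and_eq_true] at hchk'
  rw [cof_five_eq X F] at hmem'
  have h' := List.all_eq_true.1 hchk'.2 _ hmem'
  simp only [Bool.and_eq_true, Bool.not_eq_true', beq_eq_false_iff_ne] at h'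
  exact h'.1.1.2 (Nat.mod_eq_zero_of_dvd (seven_dvd_cent X hs his))

theorem card_cent_seven : Nat.card C[(F.P : Subgroup G)] = 42 := by
  rw [F.hC7, cof_seven_eq X F]

/-- The centralizer of the Sylow 5-subgroup is nonabelian modulo it, with commutator index not 4. -/
theorem five_quotient :
    (¬ ∀ a b : C[(F.Q : Subgroup G)] ⧸ coreC F.Q, a * b = b * a) ∧
      (commutator (C[(F.Q : Subgroup G)] ⧸ coreC F.Q)).index ≠ 4 := by
  obtain ⟨V, hV, hVmem, hVc⟩ := exists_four X F
  obtain ⟨v, hv, hv1⟩ : ∃ v ∈ V, v ≠ 1 := by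
    by_contra h
    push Not at h
    rw [(Subgroup.eq_bot_iff_forall V).2 h, Subgroup.card_bot] at hV
    norm_num at hV
  obtain ⟨hvC, hvsq⟩ := (hVmem v).1 hv
  obtain ⟨c, hc, hcv⟩ := not_central X F
    (haveI : Fact (Nat.Prime 2) := ⟨Nat.prime_two⟩; orderOf_eq_prime hvsq hv1) hvC
  set k : C[(F.Q : Subgroup G)] := ⟨c, hc⟩ * ⟨v, hvC⟩ * ⟨c, hc⟩⁻¹ * ⟨v, hvC⟩⁻¹ with hk
  have hkV : (k : G) ∈ V :=
    mul_mem (four_conj X F hV hVmem hVc (Subgroup.centralizer_le_normalizer _ hc) hv) (inv_mem hv)
  have hk1 : (k : G) ≠ 1 := fun e => hcv (by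
    show c * v = v * c
    calc c * v = (c * v * c⁻¹ * v⁻¹) * (v * c) := by group
      _ = v * c := by rw [show c * v * c⁻¹ * v⁻¹ = 1 from e, one_mul])
  have hknot : k ∉ coreC F.Q := fun h => by
    have h5 : orderOf (k : G) ∣ 5 := (Subgroup.orderOf_dvd_natCard _ (Subgroup.mem_subgroupOf.1 h)).trans (dvd_of_eq F.S5.card_P)
    have h2 : orderOf (k : G) ∣ 2 := orderOf_dvd_of_pow_eq_one ((hVmem _).1 hkV).2
    exact hk1 (orderOf_eq_one_iff.1 (Nat.dvd_one.1 ((by norm_num : Nat.gcd 5 2 = 1) ▸ Nat.dvd_gcd h5 h2)))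
  have hq1 : (k : C[(F.Q : Subgroup G)] ⧸ coreC F.Q) ≠ 1 := fun h => hknot ((QuotientGroup.eq_one_iff k).1 h)
  set π := QuotientGroup.mk' (coreC F.Q)
  refine ⟨fun h => hq1 ?_, fun h4 => ?_⟩
  · show π k = 1
    rw [hk, map_mul, map_mul, map_mul, map_inv, map_inv, h (π ⟨c, hc⟩)]
    group
  · have hmem : π k ∈ commutator (C[(F.Q : Subgroup G)] ⧸ coreC F.Q) := by
      rw [hk, map_mul, map_mul, map_mul, map_inv, map_inv, commutator_def]
      exact Subgroup.commutator_mem_commutator (Subgroup.mem_top _) (Subgroup.mem_top _)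
    have hQ : Nat.card (C[(F.Q : Subgroup G)] ⧸ coreC F.Q) = 12 := by
      have h := (coreC F.Q).card_eq_card_quotient_mul_card_subgroup
      rw [Nat.card_congr (Subgroup.subgroupOfEquivOfLe (le_centralizer_self F.S5.card_P)).toEquiv,
        F.S5.card_P, card_cent_five X F] at h
      omega
    have h3 := Subgroup.card_mul_index (commutator (C[(F.Q : Subgroup G)] ⧸ coreC F.Q))
    rw [h4, hQ] at h3
    have hord : orderOf (π k) = 2 := by
      haveI : Fact (Nat.Prime 2) := ⟨Nat.prime_two⟩
      refine orderOf_eq_prime ?_ hq1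
      rw [← map_pow, show k ^ 2 = 1 from Subtype.ext ((hVmem _).1 hkV).2, map_one]
    have h2 := hord ▸ Subgroup.orderOf_dvd_natCard _ hmem
    omega

/-- The centralizer of the Sylow 7-subgroup is nonabelian modulo it. -/
theorem seven_quotient : ¬ ∀ a b : C[(F.P : Subgroup G)] ⧸ coreC F.P, a * b = b * a := by
  intro hab
  set π := QuotientGroup.mk' (coreC F.P)
  haveI : Fact (Nat.Prime 2) := ⟨Nat.prime_two⟩
  have h42 := card_cent_seven X F
  obtain ⟨z', hz'⟩ := exists_prime_orderOf_dvd_card' (G := C[(F.P : Subgroup G)]) 2 (by rw [h42]; norm_num)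
  -- the involution is unique
  have huniq : ∀ u : C[(F.P : Subgroup G)], orderOf u = 2 → u = z' := by
    intro u hu
    have hzz : z' * z' = 1 := by rw [← pow_two, ← hz', pow_orderOf_eq_one]
    have huu : u * u = 1 := by rw [← pow_two, ← hu, pow_orderOf_eq_one]
    set x := z' * u * z' * u with hx
    have hxP : (x : G) ∈ (F.P : Subgroup G) := Subgroup.mem_subgroupOf.1 ((QuotientGroup.eq_one_iff x).1 (by
      show π x = 1
      rw [hx, map_mul, map_mul, map_mul, hab (π z') (π u), mul_assoc (π u),
        ← map_mul π z' z', hzz, map_one, mul_one, ← map_mul, huu, map_one]))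
    have hcx : z' * x = x * z' := Subtype.ext (Subgroup.mem_centralizer_iff.1 z'.2 (x : G) hxP).symm
    have hcomm : z' * u * z' * u = 1 := by
      have h2 : x * x = 1 := by
        have hx' : x = u * z' * u * z' := by
          calc x = x * z' * z' := by rw [mul_assoc, hzz, mul_one]
            _ = z' * x * z' := by rw [← hcx]
            _ = u * z' * u * z' := by rw [hx]; simp only [← mul_assoc, hzz, one_mul]
        calc x * x = z' * u * z' * (u * u) * z' * u * z' := by
              nth_rewrite 2 [hx']; rw [hx]; simp only [mul_assoc]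
          _ = z' * u * (z' * z') * u * z' := by rw [huu, mul_one]; simp only [mul_assoc]
          _ = z' * (u * u) * z' := by rw [hzz, mul_one]; simp only [mul_assoc]
          _ = 1 := by rw [huu, mul_one, hzz]
      have h7 : orderOf (x : G) ∣ 7 := (Subgroup.orderOf_dvd_natCard _ hxP).trans (dvd_of_eq F.S7.card_P)
      have h2' : orderOf (x : G) ∣ 2 := orderOf_dvd_of_pow_eq_one (by
        rw [pow_two]; exact congrArg Subtype.val h2)
      exact Subtype.ext (orderOf_eq_one_iff.1 (Nat.dvd_one.1 ((by norm_num : Nat.gcd 7 2 = 1) ▸ Nat.dvd_gcd h7 h2')))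
    by_contra hne
    have hd : orderOf (z' * u) = 2 := orderOf_eq_prime (by rw [pow_two, ← mul_assoc]; exact hcomm) fun e => hne (by
      calc u = z' * (z' * u) := by rw [← mul_assoc, hzz, one_mul]
        _ = z' := by rw [e, mul_one])
    have hc : u * z' = z' * u := by
      calc u * z' = z' * (z' * u * z' * u) * u := by simp only [← mul_assoc, hzz, one_mul]; rw [mul_assoc, huu, mul_one]
        _ = z' * u := by rw [hcomm, mul_one]
    let K : Subgroup C[(F.P : Subgroup G)] :=
      { carrier := {1, z', u, z' * u}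
        one_mem' := by simp
        mul_mem' := by
          intro p q hp hq
          simp only [Set.mem_insert_iff, Set.mem_singleton_iff] at hp hq ⊢
          have e1 : z' * (z' * u) = u := by rw [← mul_assoc, hzz, one_mul]
          have e2 : u * (z' * u) = z' := by rw [← mul_assoc, hc, mul_assoc, huu, mul_one]
          have e3 : z' * u * z' = u := by rw [mul_assoc, hc, e1]
          have e4 : z' * u * u = z' := by rw [mul_assoc, huu, mul_one]
          have e5 : z' * u * (z' * u) = 1 := by rw [← mul_assoc]; exact hcomm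
          rcases hp with rfl | rfl | rfl | rfl <;> rcases hq with rfl | rfl | rfl | rfl <;>
            simp [hzz, huu, hc, e1, e2, e3, e4, e5]
        inv_mem' := by
          intro p hp
          simp only [Set.mem_insert_iff, Set.mem_singleton_iff] at hp ⊢
          rcases hp with rfl | rfl | rfl | rfl
          · simp
          · exact Or.inr (Or.inl (inv_eq_of_mul_eq_one_right hzz))
          · exact Or.inr (Or.inr (Or.inl (inv_eq_of_mul_eq_one_right huu)))
          · exact Or.inr (Or.inr (Or.inr (inv_eq_of_mul_eq_one_right (by rw [← mul_assoc]; exact hcomm)))) }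
    have hz1 : z' ≠ 1 := fun e => by rw [e, orderOf_one] at hz'; norm_num at hz'
    have hu1 : u ≠ 1 := fun e => by rw [e, orderOf_one] at hu; norm_num at hu
    have hd1 : z' * u ≠ 1 := fun e => by rw [e, orderOf_one] at hd; norm_num at hd
    have hK : Nat.card K = 4 := by
      show Nat.card ({1, z', u, z' * u} : Set C[(F.P : Subgroup G)]) = 4
      rw [Nat.card_coe_set_eq, Set.ncard_insert_of_notMem (by simp [hz1.symm, hu1.symm, Ne.symm hd1]),
        Set.ncard_insert_of_notMem (by simp [Ne.symm hne, hu1]), Set.ncard_pair (by simp [hz1])]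
    have := hK ▸ Subgroup.card_subgroup_dvd_card K
    rw [h42] at this
    norm_num at this
  set z : G := (z' : G) with hzdef
  have hzC : z ∈ C[(F.P : Subgroup G)] := z'.2
  have hz : orderOf z = 2 := (Subgroup.orderOf_coe z').trans hz'
  set N := Subgroup.normalizer ((F.P : Subgroup G) : Set G)
  set H := Subgroup.centralizer ({z} : Set G)
  have hNH : N ≤ H := fun n hn => by
    have hu := huniq ⟨n * z * n⁻¹, conj_centralizer_mem hn hzC⟩
      (by rw [Subgroup.orderOf_mk]; exact (orderOf_conj' n z).trans hz)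
    refine Subgroup.mem_centralizer_singleton_iff.2 ?_
    calc n * z = n * z * n⁻¹ * n := by group
      _ = z * n := by rw [show n * z * n⁻¹ = z from congrArg Subtype.val hu]
  obtain ⟨b, hbo, hbP, hbz, -, -⟩ := exists_gen X F.P F.S7.card_P
  have hcard : Nat.card ↥(Subgroup.normalizer ((Subgroup.zpowers b : Subgroup G) : Set G) ⊓ H) = 126 := by
    rw [hbz, inf_eq_left.2 hNH, seven_normalizer X F, cof_seven_eq X F]
  obtain ⟨hn, hmod⟩ := index_modEq_one (p := 7) (X.hcard ▸ by norm_num) hbo H
    (Subgroup.mem_centralizer_singleton_iff.2 (Subgroup.mem_centralizer_iff.1 hzC b hbP)) hcard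
  set C := Nat.card H with hC
  have hCs : C ∈ cents 7 := by
    refine List.mem_filter.2 ⟨mem_dv (by norm_num) (centralizer_dvd X hz), ?_⟩
    simp only [beq_iff_eq]
    omega
  have hmem : rowAt F z ∈ sols F.c5 28 C := by
    refine mem_sols F X hz hC.symm fun χ hχ => ?_
    have h4 := four_dvd X hz χ
    have h7 : (7 : ℤ) ∣ MTwentyTwo.intVal z χ - (dg χ : ℤ) := by
      refine mod_of_commute X hz F.S7 (by norm_num) (fac_seven X) hzC ?_
      simp only [List.mem_cons, List.not_mem_nil, or_false] at hχ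
      rcases hχ with rfl | rfl | rfl | rfl | rfl | rfl
      · exact Or.inl (mem7 F).1
      · exact Or.inl (mem7 F).2.1
      · exact Or.inl (mem7 F).2.2
      · exact Or.inr (by rw [F.dA]; norm_num)
      · exact Or.inr (by rw [F.dB]; norm_num)
      · exact Or.inr (by rw [F.dE]; norm_num)
    omega
  rw [cof_five_eq X F] at hmem
  have hchk := List.all_eq_true.1 seven_check C hCs
  simp only [Bool.or_eq_true, Bool.not_eq_true', Bool.and_eq_false_iff, beq_eq_false_iff_ne] at hchk
  have h := List.all_eq_true.1 (hchk.resolve_left fun h' =>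
    h'.elim (fun h'' => h'' (Nat.mod_eq_zero_of_dvd hn)) (fun h'' => h'' hmod)) _ hmem
  simp only [Bool.and_eq_true, beq_iff_eq] at h
  obtain ⟨m, hm, hcnt⟩ := square_five F X hz hC.symm
  rw [cof_five_eq X F, h.2] at hm
  have hm3 : m = 3 := by
    have hd : sqDen C ≠ 0 := by rw [h.1]; decide
    have h' : m * m = 9 := by exact_mod_cast (mul_right_cancel₀ hd hm).symm
    exact Nat.mul_self_inj.1 (h'.trans (by norm_num))
  rw [hm3] at hcnt
  obtain ⟨V, hV, hVmem, hVc⟩ := exists_four X F
  obtain ⟨w, hw, hwC, hwcnt⟩ := exists_special X F hV hVmem hVc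
  set fz := (Char.classFinset z).filter fun a => ∀ x ∈ (F.Q : Subgroup G), a * x * a⁻¹ = x⁻¹
  set fw := (Char.classFinset w).filter fun a => ∀ x ∈ (F.Q : Subgroup G), a * x * a⁻¹ = x⁻¹
  have hdisj : Disjoint fz fw := by
    rw [Finset.disjoint_left]
    intro a ha1 ha2
    simp only [fz, fw, Finset.mem_filter, Char.mem_classFinset] at ha1 ha2
    obtain ⟨g, hg⟩ := isConj_iff.1 (ha1.1.trans ha2.1.symm)
    have e : C = 7680 := by
      rw [← hwC, hC]
      refine Nat.card_congr (Equiv.subtypeEquiv (MulAut.conj g).toEquiv fun y => ?_)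
      simp only [MulEquiv.toEquiv_eq_coe, MulEquiv.coe_toEquiv, ← hg]
      simp only [H, Subgroup.mem_centralizer_singleton_iff, MulAut.conj_apply]
      constructor
      · intro hy
        calc g * y * g⁻¹ * (g * z * g⁻¹) = g * (y * z) * g⁻¹ := by group
          _ = g * (z * y) * g⁻¹ := by rw [hy]
          _ = g * z * g⁻¹ * (g * y * g⁻¹) := by group
      · intro hy
        calc y * z = g⁻¹ * (g * y * g⁻¹ * (g * z * g⁻¹)) * g := by group
          _ = g⁻¹ * (g * z * g⁻¹ * (g * y * g⁻¹)) * g := by rw [hy]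
          _ = z * y := by group
    rw [h.1] at e
    norm_num at e
  have hsub : fz ∪ fw ⊆ Finset.univ.filter fun a : G =>
      a ^ 2 = 1 ∧ ∀ x ∈ (F.Q : Subgroup G), a * x * a⁻¹ = x⁻¹ := fun a ha => by
    rcases Finset.mem_union.1 ha with ha | ha <;>
      simp only [fz, fw, Finset.mem_filter, Char.mem_classFinset, Finset.mem_univ, true_and] at ha ⊢ <;>
      refine ⟨?_, ha.2⟩ <;> obtain ⟨g, rfl⟩ := isConj_iff.1 ha.1 <;> rw [conj_pow]
    · rw [← hz, pow_orderOf_eq_one]; group
    · rw [← hw, pow_orderOf_eq_one]; group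
  have h30 := (Finset.card_le_card hsub).trans (inverters_le X F hV hVmem hVc)
  rw [Finset.card_union_of_disjoint hdisj, hcnt, hwcnt] at h30
  norm_num at h30

end Cfsg.Lib.MTwentyFour.Local
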