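import Cfsg.Agent.Lib.MTwentyFour.Local.PrincipalFive

/-!
The principal family at 7: either the families of M24 at 5 and 7, or an automizer of order 6 at 7.
-/

set_option autoImplicit false
set_option linter.style.haveILetI false
set_option linter.unusedSectionVars false
set_option maxHeartbeats 1000000

namespace Cfsg.Lib.MTwentyFour.Local

open Cfsg Cfsg.Lib Cfsg.Lib.Block Cfsg.Lib.MTwentyFour.Eleven
open Cfsg.Lib.MTwentyFour.Search (ord24)
open scoped ComplexConjugate Classical

universe u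

noncomputable local instance (priority := high) fintypeSubgroupSevenFamily {A : Type u}
    [Group A] [Fintype A] (H : Subgroup A) : Fintype H := Fintype.ofFinite H

local notation "C[" P "]" => Subgroup.centralizer (SetLike.coe P)

variable {G : Type u} [Group G] [Fintype G] [IsSimpleGroup G] [Fact (Nat.Prime 5)] [Fact (Nat.Prime 7)]
  (X : Ctx G) {Q : Sylow 5 G} {q : ℕ} {S5 : Small.Shape Q 4} {χA χa χB χE : IrrCharacter G}
  (hF : FiveFam Q q S5 χA χa χB χE) {P : Sylow 7 G} {e c : ℕ} (S7 : Small.Shape P e)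
  (hP : Nat.card C[(P : Subgroup G)] = 7 * c) (he : e ∈ [2, 3, 6])
include X hF hP he

/-- The character of degree 2024 is in the principal family at 7 with sign one. -/
theorem seven_member : χa ∈ S7.Z ∧ S7.σ χa = 1 := by
  obtain ⟨hQ, -, h7, dA, da, dB, dE, hZ, sA, sa, sB, sE⟩ := hF
  have hm : χA ∈ S5.Z ∧ χa ∈ S5.Z ∧ χB ∈ S5.Z ∧ χE ∈ S5.Z := by simp [hZ]
  have hne : ∀ {χ ψ : IrrCharacter G}, dg χ ≠ dg ψ → χ ≠ ψ := fun h e => h (e ▸ rfl)
  have h1 : dg (Small.one' G) = 1 := Small.charDegree_one'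
  have hcs := cross_sum X S5 hQ h7 S7 hP
  obtain ⟨kA, hkA, eA, -⟩ := exists_cross X S5 hQ S7 hP hm.1
  obtain ⟨ka, hka, ea, hka'⟩ := exists_cross X S5 hQ S7 hP hm.2.1
  obtain ⟨kB, hkB, eB, -⟩ := exists_cross X S5 hQ S7 hP hm.2.2.1
  obtain ⟨kE, hkE, eE, -⟩ := exists_cross X S5 hQ S7 hP hm.2.2.2
  have hzero : kA = 0 ∧ kB = 0 ∧ kE = 0 := by
    rw [sd, sA, dA] at hkA
    rw [sd, sB, dB] at hkB
    rw [sd, sE, dE] at hkE
    simp only [List.mem_cons, List.not_mem_nil, or_false] at he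
    rcases he with rfl | rfl | rfl <;> norm_num [cross] at hkA hkB hkE <;> exact ⟨hkA, hkB, hkE⟩
  have hsum : ∀ f : IrrCharacter G → ℂ,
      ∑ χ ∈ S5.Z, f χ = f (Small.one' G) + (f χA + (f χa + (f χB + f χE))) := by
    intro f
    rw [hZ, Finset.sum_insert, Finset.sum_insert, Finset.sum_insert, Finset.sum_insert, Finset.sum_singleton] <;>
      simp only [Finset.mem_insert, Finset.mem_singleton, not_or] <;> (try constructorm* _ ∧ _) <;>
      (apply hne; simp [h1, dA, da, dB, dE])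
  rw [hsum, eA, ea, eB, eE, sSum_one_seven X S7 hP, S5.sign_one, hzero.1, hzero.2.1, hzero.2.2] at hcs
  have hc0 : (c : ℂ) ≠ 0 := Nat.cast_ne_zero.2 fun h => by
    rw [h, mul_zero] at hP; exact Nat.card_pos.ne' hP
  have hka6 : ((6 + ka : ℤ) : ℂ) = 0 := by
    refine (mul_eq_zero.1 (show (c : ℂ) * ((6 + ka : ℤ) : ℂ) = 0 from ?_)).resolve_left hc0
    push_cast at hcs ⊢
    rw [map_mul, map_natCast, map_ofNat] at hcs
    linear_combination hcs
  have hka0 : ka ≠ 0 := by
    rintro rfl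
    norm_num at hka6
  have hpos : (0 : ℤ) < (dg χa : ℤ) := Int.natCast_pos.2 (Block.charDegree_pos χa)
  rcases hka' hka0 with h | h
  · refine ⟨S7.mem_Z.2 (Or.inr h), ?_⟩
    have hc := S7.cong χa h
    change S7.σ χa * (dg χa : ℤ) ≡ 1 [ZMOD 7] at hc
    rw [da] at hc
    rcases S7.sign χa (S7.mem_Z.2 (Or.inr h)) with hs | hs
    · exact hs
    · rw [hs] at hc; exact absurd hc (by decide)
  · have hdY := deg_Y S7 h
    have hc := S7.congθ
    change S7.σ S7.θ * (dg S7.θ : ℤ) ≡ -(e : ℤ) [ZMOD 7] at hc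
    rw [← hdY, da] at hc
    rcases S7.sign S7.θ (S7.mem_Z.2 (Or.inl rfl)) with hs | hs <;> rw [hs] at hc
    · have he6 : e = 6 := by
        simp only [List.mem_cons, List.not_mem_nil, or_false] at he
        rcases he with rfl | rfl | rfl <;> first | rfl | exact absurd hc (by decide)
      have hY : S7.Y = {S7.θ} := by
        refine Finset.eq_singleton_iff_unique_mem.2 ⟨S7.θ_mem, fun w hw => ?_⟩
        exact Finset.card_le_one.1 (le_of_eq (show S7.Y.card = 1 by rw [S7.card_Y, he6])) w hw _ S7.θ_mem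
      rw [hY, Finset.mem_singleton] at h
      exact ⟨h ▸ S7.mem_Z.2 (Or.inl rfl), h ▸ hs⟩
    · simp only [List.mem_cons, List.not_mem_nil, or_false] at he
      rcases he with rfl | rfl | rfl <;> exact absurd hc (by decide)

omit he in
/-- An automizer of order 2 is impossible. -/
theorem not_two (S : Small.Shape P 2) : False := by
  obtain ⟨hZ, hs⟩ := seven_member X hF S hP (by simp)
  have da : dg χa = 2024 := hF.2.2.2.2.1
  set U := S.Z.erase (Small.one' G) with hU
  have hne : χa ≠ Small.one' G := fun h => by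
    rw [h, show dg (Small.one' G) = 1 from Small.charDegree_one'] at da; norm_num at da
  have haU : χa ∈ U := Finset.mem_erase.2 ⟨hne, hZ⟩
  obtain ⟨t, ht⟩ := Finset.card_eq_one.1 (show (U.erase χa).card = 1 by
    rw [Finset.card_erase_of_mem haU, hU, Finset.card_erase_of_mem S.one_mem, S.card_Z])
  have htZ : t ∈ S.Z :=
    Finset.mem_of_mem_erase (Finset.mem_of_mem_erase (ht ▸ Finset.mem_singleton_self t : t ∈ U.erase χa))
  have hsum : ∑ χ ∈ S.Z, sd S χ = 0 := S.rel_deg
  rw [← Finset.add_sum_erase _ _ S.one_mem, ← hU, ← Finset.add_sum_erase _ _ haU, ht, Finset.sum_singleton,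
    sd_one, show sd S χa = 2024 by rw [sd, hs, da]; norm_num] at hsum
  have hd : dg t = 2025 := by
    have h1 := sd_natAbs S htZ
    omega
  have := Block.charDegree_dvd_card t
  rw [show charDegree (t : G → ℂ) = 2025 from hd, card24 X] at this
  norm_num at this

omit he in
/-- With an automizer of order 3 the family at 7 is that of M24. -/
theorem fams_of_three (S : Small.Shape P 3) : Nonempty (Fams G) := by
  obtain ⟨haZ, hsa⟩ := seven_member X hF S hP (by simp)
  obtain ⟨hQ, -, h7, dA, da, dB, dE, hZ, sA, sa, sB, sE⟩ := hF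
  have h1 : dg (Small.one' G) = 1 := Small.charDegree_one'
  have hoX : Small.one' G ∈ S.X := S.one_mem_X (by norm_num)
  have haX : χa ∈ S.X := by
    refine (S.mem_Z.1 haZ).resolve_left fun h => ?_
    have hc := S.congθ
    change S.σ S.θ * (dg S.θ : ℤ) ≡ -((3 : ℕ) : ℤ) [ZMOD 7] at hc
    rw [← h, hsa, da] at hc
    exact absurd hc (by decide)
  have hne : χa ≠ Small.one' G := fun h => by rw [h, h1] at da; norm_num at da
  set U := S.X.erase (Small.one' G) with hU
  have haU : χa ∈ U := Finset.mem_erase.2 ⟨hne, haX⟩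
  obtain ⟨b, hb⟩ := Finset.card_eq_one.1 (show (U.erase χa).card = 1 by
    rw [Finset.card_erase_of_mem haU, hU, Finset.card_erase_of_mem hoX, S.card_X])
  have hbm : b ∈ U.erase χa := hb ▸ Finset.mem_singleton_self b
  have hbX : b ∈ S.X := Finset.mem_of_mem_erase (Finset.mem_of_mem_erase hbm)
  have hb1 : b ≠ Small.one' G := Finset.ne_of_mem_erase (Finset.mem_of_mem_erase hbm)
  have hbZ := S.mem_Z.2 (Or.inr hbX)
  have hθZ := S.mem_Z.2 (Or.inl rfl : S.θ = S.θ ∨ S.θ ∈ S.X)
  have hθ1 : S.θ ≠ Small.one' G := S.θ_ne_one (by norm_num)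
  have hsum : ∑ χ ∈ S.Z, sd S χ = 0 := S.rel_deg
  rw [S.Z_eq, Finset.sum_insert S.θ_notMem, ← Finset.add_sum_erase _ _ hoX, ← hU,
    ← Finset.add_sum_erase _ _ haU, hb, Finset.sum_singleton, sd_one,
    show sd S χa = 2024 by rw [sd, hsa, da]; norm_num] at hsum
  have hnc : ¬ IsCyclic G := Small.not_isCyclic_of_card (by rw [X.hcard]; norm_num)
  obtain ⟨m, hm⟩ : 7 * c ∣ 244823040 := hP ▸ card24 X ▸ Subgroup.card_subgroup_dvd_card _
  have hdiv : ∀ χ ∈ S.Z, dg χ ∣ ord24 / 7 := fun χ hχ => by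
    refine (deg_dvd_mul S hP hχ (m := m) (by rw [card24 X, hm])).trans ⟨c, ?_⟩
    rw [show ord24 / 7 = 34974720 by norm_num]
    linarith
  have hbm' : sd S b ∈ mems 7 1 2 (ord24 / 7) :=
    mem_mems X S (by norm_num) hbZ (by norm_num) one_pos (sd_modEq_X S hbX)
      (Small.two_le_charDegree hnc hb1) (hdiv b hbZ) (by norm_num)
  have htm : sd S S.θ ∈ mems 7 4 2 (ord24 / 7) :=
    mem_mems X S (by norm_num) hθZ (by norm_num) (by norm_num) (sd_modEq_θ S)
      (Small.two_le_charDegree hnc hθ1) (hdiv _ hθZ) (by norm_num)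
  rw [show sd S S.θ = -(2025 + sd S b) by omega] at htm
  have hchk := List.all_eq_true.1 principal_seven_check _ hbm'
  simp only [Bool.or_eq_true, Bool.not_eq_true', ← Bool.not_eq_true, List.contains_iff_mem, Bool.and_eq_true,
    beq_iff_eq] at hchk
  obtain ⟨hbv, -⟩ := hchk.resolve_left (not_not.2 htm)
  have hθv : sd S S.θ = -990 := by omega
  have key : ∀ χ ∈ S.Z, ∀ d : ℕ, sd S χ = -(d : ℤ) → 0 < d → dg χ = d ∧ S.σ χ = -1 := fun χ hχ d h hd => by
    have hd' := sd_natAbs S hχ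
    have hpos := Block.charDegree_pos χ
    rw [sd] at h hd'
    rcases S.sign χ hχ with e | e <;> rw [e] at h ⊢ <;> omega
  obtain ⟨db, sb⟩ := key b hbZ 1035 (by simpa using hbv) (by norm_num)
  obtain ⟨dc, sc⟩ := key S.θ hθZ 990 (by simpa using hθv) (by norm_num)
  refine ⟨⟨Q, P, q, c, hQ, hP, S5, S, χa, b, S.θ, χA, χB, χE, da, db, dc, dA, dB, dE, hZ, ?_,
    sA, sa, sB, sE, hsa, sb, sc⟩⟩
  rw [S.Z_eq, ← Finset.insert_erase hoX, ← hU, ← Finset.insert_erase haU, hb]
  ext χ
  simp only [Finset.mem_insert, Finset.mem_singleton]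
  tauto

omit hP he hF in
/-- The families of M24, or an automizer of order 6 at 7. -/
theorem fams_or_six : Nonempty (Fams G) ∨
    ∀ P : Sylow 7 G, (C[(P : Subgroup G)]).relIndex (Subgroup.normalizer ((P : Subgroup G) : Set G)) = 6 := by
  by_cases hsix : ∀ P : Sylow 7 G,
      (C[(P : Subgroup G)]).relIndex (Subgroup.normalizer ((P : Subgroup G) : Set G)) = 6
  · exact Or.inr hsix
  left
  push Not at hsix
  obtain ⟨P, hP6⟩ := hsix
  obtain ⟨Q, q, S5, χA, χa, χB, χE, hF⟩ := exists_five_family X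
  have hd : 7 ∣ Nat.card G := X.hcard ▸ by norm_num
  have hsq : ¬ 7 * 7 ∣ Nat.card G := X.hcard ▸ by norm_num
  obtain ⟨hed, he1, -⟩ := Order175560.relIndex_centralizer hd hsq (by rw [X.hcard]; norm_num) P
  set e := (C[(P : Subgroup G)]).relIndex (Subgroup.normalizer ((P : Subgroup G) : Set G)) with he
  obtain ⟨S⟩ := Small.exists_shape (p := 7) (by norm_num) P (sylow_seven X P) he.symm he1
  obtain ⟨c, hP⟩ : 7 ∣ Nat.card C[(P : Subgroup G)] := by
    have := Subgroup.card_dvd_of_le (le_centralizer_self (sylow_seven X P))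
    rwa [sylow_seven X P] at this
  have he23 : e = 2 ∨ e = 3 := by
    have := Nat.le_of_dvd (by norm_num) hed
    interval_cases e <;> norm_num at hed <;> first | exact Or.inl rfl | exact Or.inr rfl | exact absurd rfl hP6
  rcases he23 with h | h <;> clear_value e <;> subst h
  · exact (not_two X hF hP S).elim
  · exact fams_of_three X hF hP S

end Cfsg.Lib.MTwentyFour.Local
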