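import Mathlib.GroupTheory.Sylow
import Mathlib.GroupTheory.Transfer
import Mathlib.Tactic.NormNum

/-!
A group of order 12 without central involution has a normal four-group containing all its
elements of order dividing 2, and no element outside it commutes with a nontrivial element in it.
-/

set_option autoImplicit false
set_option linter.style.haveILetI false

namespace Cfsg.Lib.MTwentyFour.Local

universe u

variable {W : Type u} [Group W] [Finite W]

/-- The structure of a group of order 12 without central involution. -/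
theorem four_of_twelve (h12 : Nat.card W = 12)
    (hno : ∀ j : W, orderOf j = 2 → ∃ g : W, ¬ Commute g j) :
    ∃ V : Subgroup W, Nat.card V = 4 ∧ (∀ g : W, g ∈ V ↔ g ^ 2 = 1) ∧
      ∀ g v : W, v ∈ V → v ≠ 1 → Commute g v → g ∈ V := by
  classical
  haveI : Fact (Nat.Prime 2) := ⟨Nat.prime_two⟩
  haveI : Fact (Nat.Prime 3) := ⟨Nat.prime_three⟩
  have hfac : (12 : ℕ).factorization 2 = 2 := by
    rw [show (12 : ℕ) = 2 ^ 2 * 3 by norm_num, Nat.factorization_mul (by norm_num) (by norm_num),
      Finsupp.add_apply, Nat.Prime.factorization_pow Nat.prime_two, Finsupp.single_eq_same,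
      Nat.Prime.factorization Nat.prime_three, Finsupp.single_eq_of_ne (by norm_num)]
    norm_num
  have hcard : ∀ S : Sylow 2 W, Nat.card S = 2 ^ 2 := fun S => by
    rw [S.card_eq_multiplicity, h12, hfac]
  have key : ∀ j : W, orderOf j = 2 → ∀ g : W, 3 ∣ orderOf g → ¬ Commute g j := by
    intro j hj g hg hgj
    obtain ⟨S, hS⟩ := (IsPGroup.of_card (G := ↥(Subgroup.zpowers j)) (p := 2) (n := 1)
      (by rw [Nat.card_zpowers, hj, pow_one])).exists_le_sylow
    set H := Subgroup.centralizer ({j} : Set W)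
    have hSH : (S : Subgroup W) ≤ H := fun x hx => Subgroup.mem_centralizer_singleton_iff.2
      (congrArg Subtype.val (IsPGroup.commutative_of_card_eq_prime_sq (hcard S) ⟨x, hx⟩
        ⟨j, hS (Subgroup.mem_zpowers j)⟩))
    have h4 : 4 ∣ Nat.card H := by
      have := Subgroup.card_dvd_of_le hSH
      rwa [show Nat.card (S : Subgroup W) = 4 from hcard S] at this
    have h3 : 3 ∣ Nat.card H :=
      hg.trans (Subgroup.orderOf_dvd_natCard _ (Subgroup.mem_centralizer_singleton_iff.2 hgj.eq))
    have htop : H = ⊤ := Subgroup.eq_top_of_card_eq _ (Nat.dvd_antisymm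
      (Subgroup.card_subgroup_dvd_card H) (h12 ▸ Nat.Coprime.mul_dvd_of_dvd_of_dvd
        (by norm_num : Nat.Coprime 4 3) h4 h3))
    obtain ⟨a, ha⟩ := hno j hj
    exact ha (Subgroup.mem_centralizer_singleton_iff.1 (htop ▸ Subgroup.mem_top a : a ∈ H))
  obtain ⟨T⟩ : Nonempty (Sylow 2 W) := inferInstance
  have hT : Nat.card (T : Subgroup W) = 4 := hcard T
  -- the Sylow 2-subgroup is normal
  haveI hTn : (T : Subgroup W).Normal := by
    by_contra hnn
    set N := Subgroup.normalizer ((T : Subgroup W) : Set W) with hN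
    have hle : (T : Subgroup W) ≤ N := Subgroup.le_normalizer
    have hNne : Nat.card N ≠ 12 := fun h =>
      hnn (Subgroup.normalizer_eq_top_iff.1 (Subgroup.eq_top_of_card_eq _ (h.trans h12.symm)))
    have hN4 : Nat.card N = 4 := by
      obtain ⟨k, hk⟩ := (hT ▸ Subgroup.card_dvd_of_le hle : 4 ∣ Nat.card N)
      have hk3 : k ∣ 3 := Nat.dvd_of_mul_dvd_mul_left (k := 4) (by norm_num)
        (hk ▸ (Subgroup.card_subgroup_dvd_card N).trans (dvd_of_eq (h12.trans (by norm_num : 12 = 4 * 3))))
      rcases (Nat.dvd_prime Nat.prime_three).1 hk3 with e | e <;> omega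
    have hNT : N = (T : Subgroup W) := (Subgroup.eq_of_le_of_card_ge hle (by omega)).symm
    have hP : Subgroup.normalizer ((T : Subgroup W) : Set W) ≤
        Subgroup.centralizer ((T : Subgroup W) : Set W) := fun x hx y hy =>
      congrArg Subtype.val (IsPGroup.commutative_of_card_eq_prime_sq (hcard T) ⟨y, hy⟩
        ⟨x, hNT ▸ hx⟩)
    set K := (MonoidHom.transferSylow T hP).ker
    have hK : Nat.card K = 3 := by
      have h := (MonoidHom.ker_transferSylow_isComplement' T hP).card_mul_card
      rw [hT, h12] at h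
      change Nat.card (MonoidHom.transferSylow T hP).ker = 3
      omega
    obtain ⟨⟨r, hrK⟩, hr⟩ := exists_prime_orderOf_dvd_card' (G := K) 3 (by rw [hK])
    rw [Subgroup.orderOf_mk] at hr
    have hKr : Subgroup.zpowers r = K :=
      Subgroup.eq_of_le_of_card_ge (Subgroup.zpowers_le.2 hrK) (by rw [Nat.card_zpowers, hr, hK])
    have hconj : ∀ g : W, g * r * g⁻¹ = r ∨ g * r * g⁻¹ = r * r := by
      intro g
      have hmem : g * r * g⁻¹ ∈ Subgroup.zpowers r :=
        hKr ▸ (MonoidHom.normal_ker (MonoidHom.transferSylow T hP)).conj_mem r hrK g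
      obtain ⟨i, hi, he⟩ := (mem_zpowers_iff_mem_range_orderOf.1 hmem |> Finset.mem_image.1)
      rw [Finset.mem_range, hr] at hi
      interval_cases i
      · rw [pow_zero] at he
        have : r = 1 := by
          calc r = g⁻¹ * (g * r * g⁻¹) * g := by group
            _ = 1 := by rw [← he]; group
        rw [this, orderOf_one] at hr
        norm_num at hr
      · exact Or.inl (he.symm.trans (pow_one r))
      · exact Or.inr (he.symm.trans (pow_two r))
    have hcomm : ∀ g : W, g * r * g⁻¹ = r → Commute r g := fun g h => by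
      show r * g = g * r
      calc r * g = g * r * g⁻¹ * g := by rw [h]
        _ = g * r := by group
    have hinv : ∀ g : W, orderOf g = 2 → g * r * g⁻¹ = r * r := fun g hg =>
      (hconj g).resolve_left fun h => key g hg r (hr ▸ dvd_rfl) (hcomm g h)
    have hr3 : r * r * r = 1 := by
      have := pow_orderOf_eq_one r
      rwa [hr, pow_succ, pow_two] at this
    have hsq : ∀ g : W, g ^ 2 * r * (g ^ 2)⁻¹ = r := fun g => by
      rw [pow_two, show g * g * r * (g * g)⁻¹ = g * (g * r * g⁻¹) * g⁻¹ by group]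
      rcases hconj g with h | h
      · rw [h, h]
      · rw [h, show g * (r * r) * g⁻¹ = (g * r * g⁻¹) * (g * r * g⁻¹) by group, h,
          show r * r * (r * r) = r * r * r * r by group, hr3, one_mul]
    have hexp : ∀ t ∈ (T : Subgroup W), t ^ 2 = 1 := by
      intro t ht
      by_contra h
      have h4 : orderOf t ∣ 4 := hT ▸ Subgroup.orderOf_dvd_natCard _ ht
      have ho : orderOf (t ^ 2) = 2 := orderOf_eq_prime (by
        rw [← pow_mul]; exact orderOf_dvd_iff_pow_eq_one.1 h4) h
      exact key _ ho r (hr ▸ dvd_rfl) (hcomm _ (hsq t))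
    obtain ⟨⟨j, hjT⟩, hj⟩ := exists_prime_orderOf_dvd_card' (G := (T : Subgroup W)) 2 (by
      rw [hT]; norm_num)
    rw [Subgroup.orderOf_mk] at hj
    obtain ⟨k, hkT, hk⟩ : ∃ k ∈ (T : Subgroup W), k ∉ Subgroup.zpowers j := by
      by_contra h
      push Not at h
      have h1 := Subgroup.card_dvd_of_le (show (T : Subgroup W) ≤ Subgroup.zpowers j from h)
      rw [hT, Nat.card_zpowers, hj] at h1
      norm_num at h1
    have hk1 : k ≠ 1 := fun e => hk (e ▸ one_mem _)
    have hko : orderOf k = 2 := orderOf_eq_prime (hexp k hkT) hk1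
    have hjk : orderOf (j * k) = 2 := orderOf_eq_prime (hexp _ (mul_mem hjT hkT)) fun e => hk (by
      rw [(inv_eq_of_mul_eq_one_right e).symm]; exact inv_mem (Subgroup.mem_zpowers j))
    refine key _ hjk r (hr ▸ dvd_rfl) (hcomm _ ?_)
    rw [show j * k * r * (j * k)⁻¹ = j * (k * r * k⁻¹) * j⁻¹ by group, hinv k hko,
      show j * (r * r) * j⁻¹ = (j * r * j⁻¹) * (j * r * j⁻¹) by group, hinv j hj,
      show r * r * (r * r) = r * r * r * r by group, hr3, one_mul]
  have hmem : ∀ g : W, orderOf g ∣ 4 → g ∈ (T : Subgroup W) := by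
    intro g hg
    obtain ⟨i, -, hi⟩ := (Nat.dvd_prime_pow Nat.prime_two).1 (show orderOf g ∣ 2 ^ 2 from hg)
    have h := T.is_maximal' ((IsPGroup.of_card (G := ↥(Subgroup.zpowers g)) (p := 2) (n := i)
      (by rw [Nat.card_zpowers, hi])).to_sup_of_normal_right T.isPGroup') le_sup_right
    exact h ▸ Subgroup.mem_sup_left (Subgroup.mem_zpowers g)
  have hexp : ∀ t ∈ (T : Subgroup W), t ^ 2 = 1 := by
    intro t ht
    by_contra h
    have h4 : orderOf t ∣ 4 := hT ▸ Subgroup.orderOf_dvd_natCard _ ht
    have hto : orderOf t = 2 ^ 2 := orderOf_eq_prime_pow (by simpa using h)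
      (orderOf_dvd_iff_pow_eq_one.1 (by simpa using h4))
    have ho : orderOf (t ^ 2) = 2 := orderOf_eq_prime (by
      rw [← pow_mul]; exact orderOf_dvd_iff_pow_eq_one.1 h4) h
    obtain ⟨r, hr⟩ := exists_prime_orderOf_dvd_card' (G := W) 3 (by rw [h12]; norm_num)
    have hz : Subgroup.zpowers t = (T : Subgroup W) :=
      Subgroup.eq_of_le_of_card_ge (Subgroup.zpowers_le.2 ht) (by rw [Nat.card_zpowers, hto, hT]; norm_num)
    have hu : r * t ^ 2 * r⁻¹ ∈ Subgroup.zpowers t := hz ▸ hTn.conj_mem _ (pow_mem ht 2) r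
    obtain ⟨i, hi, he⟩ := (mem_zpowers_iff_mem_range_orderOf.1 hu |> Finset.mem_image.1)
    rw [Finset.mem_range, hto] at hi
    have hue : orderOf (t ^ i) = 2 := by
      rw [he]; exact ((MulAut.conj r).orderOf_eq _).trans ho
    interval_cases i
    · simp at hue
    · rw [pow_one, hto] at hue; norm_num at hue
    · refine key _ ho r (hr ▸ dvd_rfl) ?_
      show r * t ^ 2 = t ^ 2 * r
      calc r * t ^ 2 = r * t ^ 2 * r⁻¹ * r := by group
        _ = t ^ 2 * r := by rw [← he]
    · rw [Nat.Coprime.orderOf_pow (by rw [hto]; norm_num), hto] at hue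
      norm_num at hue
  refine ⟨T, hT, fun g => ⟨hexp g, fun h => hmem g
    ((orderOf_dvd_of_pow_eq_one h).trans (by norm_num))⟩, fun g v hv hv1 hgv => hmem g ?_⟩
  have hvo : orderOf v = 2 := orderOf_eq_prime (hexp v hv) hv1
  have hg12 : orderOf g ∣ 4 * 3 := (orderOf_dvd_natCard g).trans (dvd_of_eq (h12.trans (by norm_num)))
  exact ((Nat.prime_three.coprime_iff_not_dvd.2 fun h3 => key v hvo g h3 hgv).symm).dvd_of_dvd_mul_right hg12

end Cfsg.Lib.MTwentyFour.Local
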