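import Cfsg.Agent.Lib.MTwentyFour.Local.Five
import Cfsg.Agent.Lib.MTwentyFour.Local.Twelve
import Cfsg.Agent.Lib.PGroup.Basic

/-!
The shape of the centralizer and the inverting involutions of a Sylow 5-subgroup.
-/

set_option autoImplicit false
set_option linter.style.haveILetI false
set_option linter.unusedSectionVars false

namespace Cfsg.Lib.MTwentyFour.Local

open Cfsg Cfsg.Lib Cfsg.Lib.Block Cfsg.Lib.MTwentyFour.Eleven
open Cfsg.Lib.MTwentyFour.Search (ord24)
open scoped ComplexConjugate Classical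

universe u

noncomputable local instance (priority := high) fintypeSubgroupShapeFive {A : Type u}
    [Group A] [Fintype A] (H : Subgroup A) : Fintype H := Fintype.ofFinite H

local notation "C[" P "]" => Subgroup.centralizer (SetLike.coe P)

theorem conj_centralizer_mem {A : Type u} [Group A] {H : Subgroup A} {n c : A}
    (hn : n ∈ Subgroup.normalizer (H : Set A)) (hc : c ∈ C[H]) : n * c * n⁻¹ ∈ C[H] := by
  rw [Subgroup.mem_centralizer_iff] at hc ⊢
  intro x hx
  have h := hc _ ((Subgroup.mem_normalizer_iff''.1 hn x).1 hx)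
  calc x * (n * c * n⁻¹) = n * (n⁻¹ * x * n * c) * n⁻¹ := by group
    _ = n * (c * (n⁻¹ * x * n)) * n⁻¹ := by rw [h]
    _ = n * c * n⁻¹ * x := by group

theorem four_cases {A : Type u} [Group A] [Fintype A] {V : Subgroup A} (hV : Nat.card V = 4)
    (h2 : ∀ g ∈ V, g * g = 1) {a v u : A}
    (ha : a ∈ V) (hv : v ∈ V) (hu : u ∈ V) (ha1 : a ≠ 1) (hv1 : v ≠ 1) (hva : v ≠ a) (hu1 : u ≠ 1)
    (hua : u ≠ a) : u = v ∨ u = a * v := by
  set s : Finset A := {1, a, v, a * v}
  set t : Finset A := Finset.univ.filter fun g => g ∈ V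
  have ht : t.card = 4 := by
    rw [← Fintype.card_subtype, ← Nat.card_eq_fintype_card]; exact hV
  have hav : a * v ≠ 1 := fun h =>
    hva ((eq_inv_of_mul_eq_one_right h).trans (inv_eq_of_mul_eq_one_right (h2 a ha)))
  have hs : s.card = 4 := by
    rw [Finset.card_insert_of_notMem (by simp [ha1.symm, hv1.symm, hav.symm]),
      Finset.card_insert_of_notMem (by simp [hva.symm, hv1]), Finset.card_pair (by simp [ha1])]
  have hst : s = t := Finset.eq_of_subset_of_card_le
    (by simp [s, t, Finset.insert_subset_iff, ha, hv, one_mem, mul_mem ha hv]) (by omega)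
  have : u ∈ s := hst ▸ (by simp [t, hu])
  simpa [s, hu1, hua] using this

variable {G : Type u} [Group G] [Fintype G] [IsSimpleGroup G] [Fact (Nat.Prime 5)] [Fact (Nat.Prime 7)]
  (X : Ctx G) (F : Fams G)
include X

theorem card_cent_five : Nat.card C[(F.Q : Subgroup G)] = 60 := by
  rw [F.hC5, cof_five_eq X F]

theorem card_norm_five : Nat.card (Subgroup.normalizer ((F.Q : Subgroup G) : Set G)) = 240 := by
  rw [five_normalizer X F, cof_five_eq X F]

theorem pow_sixty {c : G} (hc : c ∈ C[(F.Q : Subgroup G)]) : c ^ 60 = 1 := by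
  rw [← card_cent_five X F]
  exact orderOf_dvd_iff_pow_eq_one.1 (Subgroup.orderOf_dvd_natCard _ hc)

theorem mem_of_pow_five {c : G} (hc : c ∈ C[(F.Q : Subgroup G)]) (h5 : c ^ 5 = 1) :
    c ∈ (F.Q : Subgroup G) := by
  obtain ⟨i, -, hi⟩ := (Nat.dvd_prime_pow (show Nat.Prime 5 by norm_num)).1
    (show orderOf c ∣ 5 ^ 1 by rw [pow_one]; exact orderOf_dvd_of_pow_eq_one h5)
  have h := F.Q.is_maximal' ((IsPGroup.of_card (G := ↥(Subgroup.zpowers c)) (p := 5) (n := i)
    (by rw [Nat.card_zpowers, hi])).to_sup_of_normal_right' F.Q.isPGroup'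
    (Subgroup.zpowers_le.2 (Subgroup.centralizer_le_normalizer _ hc))) le_sup_right
  exact h ▸ Subgroup.mem_sup_left (Subgroup.mem_zpowers c)

theorem exists_split {c : G} (hc : c ∈ C[(F.Q : Subgroup G)]) :
    c ^ 36 ∈ (F.Q : Subgroup G) ∧ (c ^ 25) ^ 12 = 1 ∧ c = c ^ 36 * c ^ 25 := by
  have h := pow_sixty X F hc
  refine ⟨mem_of_pow_five X F (pow_mem hc _) ?_, ?_, ?_⟩
  · rw [← pow_mul, show 36 * 5 = 60 * 3 by norm_num, pow_mul, h, one_pow]
  · rw [← pow_mul, show 25 * 12 = 60 * 5 by norm_num, pow_mul, h, one_pow]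
  · rw [← pow_add, show 36 + 25 = 60 + 1 by norm_num, pow_add, h, one_mul, pow_one]

/-- No involution is central in the centralizer. -/
theorem not_central {v : G} (hv : orderOf v = 2) (hvC : v ∈ C[(F.Q : Subgroup G)]) :
    ∃ c ∈ C[(F.Q : Subgroup G)], ¬ Commute c v := by
  by_contra hall
  push Not at hall
  haveI : Fact (Nat.Prime 2) := ⟨Nat.prime_two⟩
  set N := Subgroup.normalizer ((F.Q : Subgroup G) : Set G)
  set E : Subgroup G :=
    { carrier := {g | g ∈ C[(F.Q : Subgroup G)] ∧ g ^ 2 = 1 ∧ ∀ c ∈ C[(F.Q : Subgroup G)], Commute c g}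
      one_mem' := ⟨one_mem _, one_pow _, fun c _ => Commute.one_right c⟩
      mul_mem' := fun {a b} ha hb => ⟨mul_mem ha.1 hb.1,
        by rw [(hb.2.2 a ha.1).mul_pow, ha.2.1, hb.2.1, one_mul],
        fun c hc => (ha.2.2 c hc).mul_right (hb.2.2 c hc)⟩
      inv_mem' := fun {a} ha => ⟨inv_mem ha.1, by rw [inv_pow, ha.2.1, inv_one],
        fun c hc => (ha.2.2 c hc).inv_right⟩ } with hE
  have hEN : E ≤ N := fun g hg => Subgroup.centralizer_le_normalizer _ hg.1
  haveI : (E.subgroupOf N).Normal := ⟨fun e he n => by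
    simp only [Subgroup.mem_subgroupOf, Subgroup.coe_mul, Subgroup.coe_inv] at he ⊢
    obtain ⟨h1, h2, h3⟩ := he
    refine ⟨conj_centralizer_mem n.2 h1, by rw [conj_pow, h2]; group, fun c hc => ?_⟩
    have := (h3 _ (conj_centralizer_mem (inv_mem n.2) hc)).map (MulAut.conj (n : G)).toMonoidHom
    simpa [mul_assoc] using this⟩
  have hEp : IsPGroup 2 (E.subgroupOf N) := fun e => ⟨1, Subtype.ext (Subtype.ext (by
    simpa using (Subgroup.mem_subgroupOf.1 e.2).2.1))⟩
  obtain ⟨T⟩ : Nonempty (Sylow 2 N) := inferInstance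
  have hle : E.subgroupOf N ≤ T := hEp.le_sylow_of_normal T
  have hne : (E.subgroupOf N).subgroupOf (T : Subgroup N) ≠ ⊥ := fun h => by
    have hvE : v ∈ E := ⟨hvC, hv ▸ pow_orderOf_eq_one v, hall⟩
    have hmem : (⟨⟨v, hEN hvE⟩, hle (Subgroup.mem_subgroupOf.2 hvE)⟩ : (T : Subgroup N)) ∈
        (E.subgroupOf N).subgroupOf (T : Subgroup N) := Subgroup.mem_subgroupOf.2 (Subgroup.mem_subgroupOf.2 hvE)
    rw [h, Subgroup.mem_bot] at hmem
    have : v = 1 := congrArg (fun z : (T : Subgroup N) => ((z : N) : G)) hmem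
    rw [this, orderOf_one] at hv
    norm_num at hv
  obtain ⟨⟨⟨z, hzN⟩, hzT⟩, ⟨hz1, hz2⟩, hz0⟩ := (Subgroup.ne_bot_iff_exists_ne_one.1
    (Cfsg.Lib.PGroup.inf_center_ne_bot T.isPGroup' hne)).elim fun a ha =>
      (⟨a.1, a.2, fun e => ha (Subtype.ext e)⟩ :
        ∃ a : (T : Subgroup N), a ∈ (E.subgroupOf N).subgroupOf (T : Subgroup N) ⊓ Subgroup.center _ ∧ a ≠ 1)
  obtain ⟨hzC, hzsq, hzc⟩ : z ∈ E := hz1
  have hz : orderOf z = 2 := orderOf_eq_prime hzsq fun e => hz0 (Subtype.ext (Subtype.ext e))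
  have hTz : ∀ t : (T : Subgroup N), Commute ((t : N) : G) z := fun t =>
    congrArg (fun w : (T : Subgroup N) => ((w : N) : G)) (Subgroup.mem_center_iff.1 hz2 t)
  have hT : Nat.card (T : Subgroup N) = 16 := by
    rw [T.card_eq_multiplicity, card_norm_five X F,
      show (240 : ℕ) = 2 ^ 4 * 15 by norm_num, factorization_eq (by norm_num) (by norm_num) (by norm_num)]
    norm_num
  set H := Subgroup.centralizer ({z} : Set G)
  obtain ⟨b, hbo, hbQ, hbz, -, -⟩ := exists_gen X F.Q F.S5.card_P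
  have hcard : Nat.card ↥(Subgroup.normalizer ((Subgroup.zpowers b : Subgroup G) : Set G) ⊓ H) = 240 := by
    rw [hbz]
    refine Nat.dvd_antisymm ((Subgroup.card_dvd_of_le inf_le_left).trans (dvd_of_eq (card_norm_five X F))) ?_
    have h16 : 16 ∣ Nat.card ↥(N ⊓ H) := by
      have := Subgroup.card_dvd_of_le (show (T : Subgroup N).map N.subtype ≤ N ⊓ H by
        rintro _ ⟨t, ht, rfl⟩
        exact ⟨t.2, Subgroup.mem_centralizer_singleton_iff.2 (hTz ⟨t, ht⟩).eq⟩)
      rwa [Subgroup.card_map_of_injective N.subtype_injective, hT] at this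
    have h60 : 60 ∣ Nat.card ↥(N ⊓ H) := by
      have := Subgroup.card_dvd_of_le (show C[(F.Q : Subgroup G)] ≤ N ⊓ H from fun c hc =>
        ⟨Subgroup.centralizer_le_normalizer _ hc,
          Subgroup.mem_centralizer_singleton_iff.2 (hzc c hc).eq⟩)
      rwa [card_cent_five X F] at this
    exact Nat.lcm_dvd h16 h60
  have hbH : b ∈ H := Subgroup.mem_centralizer_singleton_iff.2
    ((hzc b (le_centralizer_self F.S5.card_P hbQ)).eq)
  obtain ⟨hn, hmod⟩ := index_modEq_one (p := 5) (X.hcard ▸ by norm_num) hbo H hbH hcard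
  obtain ⟨hmem, hCs⟩ := five_facts X F hz hzC rfl
  have hchk := List.all_eq_true.1 five_check _ hCs
  simp only [Bool.and_eq_true] at hchk
  rw [cof_five_eq X F] at hmem
  have h := List.all_eq_true.1 hchk.2 _ hmem
  simp only [Bool.and_eq_true, Bool.or_eq_true, Bool.not_eq_true', beq_iff_eq, Bool.and_eq_false_iff,
    beq_eq_false_iff_ne, decide_eq_true_eq] at h
  have h2 := h.2.resolve_left fun h' => h'.elim (fun h'' => h'' (Nat.mod_eq_zero_of_dvd hn)) (fun h'' => h'' hmod)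
  exact no_central X F hz h2.1 h2.2

/-- The four-group of the centralizer. -/
theorem exists_four : ∃ V : Subgroup G, Nat.card V = 4 ∧
    (∀ g, g ∈ V ↔ g ∈ C[(F.Q : Subgroup G)] ∧ g ^ 2 = 1) ∧
      ∀ c ∈ C[(F.Q : Subgroup G)], ∀ v ∈ V, v ≠ 1 → Commute c v → c ^ 10 = 1 := by
  obtain ⟨W, hW, hmem⟩ := exists_regular_subgroup (c := 12) F.S5.card_P ((card_cent_five X F).trans (by norm_num)) (by norm_num)
  have hWC : ∀ w ∈ W, w ∈ C[(F.Q : Subgroup G)] := fun w hw => (mem_regs.1 ((hmem w).1 hw)).1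
  have hin : ∀ {w : G}, w ∈ C[(F.Q : Subgroup G)] → w ^ 12 = 1 → w ∈ W := fun hw h12 =>
    (hmem _).2 (mem_regs.2 ⟨hw, fun h5 => by
      have := h5.trans (orderOf_dvd_of_pow_eq_one h12)
      norm_num at this⟩)
  obtain ⟨V, hV, hVmem, hVc⟩ := four_of_twelve hW fun j hj => by
    obtain ⟨c, hc, hcj⟩ := not_central X F (v := (j : G)) ((Subgroup.orderOf_coe j).trans hj) (hWC _ j.2)
    obtain ⟨hq, h12, he⟩ := exists_split X F hc
    refine ⟨⟨c ^ 25, hin (pow_mem hc _) h12⟩, fun h => hcj ?_⟩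
    rw [he]
    exact Commute.mul_left (Subgroup.mem_centralizer_iff.1 (hWC _ j.2) _ hq)
      (congrArg Subtype.val h.eq)
  refine ⟨V.map W.subtype, by rw [Subgroup.card_map_of_injective W.subtype_injective, hV],
    fun g => ⟨?_, fun h => ?_⟩, ?_⟩
  · rintro ⟨w, hw, rfl⟩
    exact ⟨hWC _ w.2, congrArg Subtype.val ((hVmem w).1 hw)⟩
  · refine ⟨⟨g, hin h.1 (by rw [show 12 = 2 * 6 by norm_num, pow_mul, h.2, one_pow])⟩,
      (hVmem _).2 (Subtype.ext h.2), rfl⟩
  · rintro c hc _ ⟨w, hw, rfl⟩ hw1 hcw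
    obtain ⟨-, h12, -⟩ := exists_split X F hc
    have h := (hVmem _).1 (hVc ⟨c ^ 25, hin (pow_mem hc _) h12⟩ w hw (fun e => hw1 (by rw [e]; rfl))
      (Subtype.ext (hcw.pow_left 25).eq))
    have h50 : c ^ 50 = 1 := by
      rw [show 50 = 25 * 2 by norm_num, pow_mul]
      exact congrArg Subtype.val h
    have h60 := pow_sixty X F hc
    calc c ^ 10 = c ^ 50 * c ^ 10 := by rw [h50, one_mul]
      _ = 1 := by rw [← pow_add, h60]

variable {V : Subgroup G} (hV : Nat.card V = 4)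
  (hVmem : ∀ g, g ∈ V ↔ g ∈ C[(F.Q : Subgroup G)] ∧ g ^ 2 = 1)
  (hVc : ∀ c ∈ C[(F.Q : Subgroup G)], ∀ v ∈ V, v ≠ 1 → Commute c v → c ^ 10 = 1)
include hV hVmem hVc

theorem four_conj {n v : G} (hn : n ∈ Subgroup.normalizer ((F.Q : Subgroup G) : Set G)) (hv : v ∈ V) :
    n * v * n⁻¹ ∈ V := by
  obtain ⟨h1, h2⟩ := (hVmem v).1 hv
  exact (hVmem _).2 ⟨conj_centralizer_mem hn h1, by rw [conj_pow, h2]; group⟩

theorem four_commute {a v : G} (ha : a ∈ V) (hv : v ∈ V) : Commute a v := by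
  have h := ((hVmem _).1 (mul_mem ha hv)).2
  have e : ∀ x ∈ V, x⁻¹ = x := fun x hx =>
    inv_eq_of_mul_eq_one_right (by rw [← pow_two]; exact ((hVmem x).1 hx).2)
  show a * v = v * a
  rw [pow_two] at h
  calc a * v = (a * v)⁻¹ := (inv_eq_of_mul_eq_one_right h).symm
    _ = v * a := by rw [mul_inv_rev, e a ha, e v hv]

/-- The elements of the centralizer of order dividing 20. -/
theorem mem_prod {c : G} (hc : c ∈ C[(F.Q : Subgroup G)]) (h20 : c ^ 20 = 1) :
    ∃ x ∈ (F.Q : Subgroup G), ∃ u ∈ V, c = x * u := by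
  have h10 : c ^ 10 = 1 := by
    by_contra hne
    have hy : c ^ 10 ∈ V := (hVmem _).2 ⟨pow_mem hc _, by rw [← pow_mul]; exact h20⟩
    have h := hVc _ (pow_mem hc 5) _ hy hne (Commute.pow_pow_self c 5 10)
    refine hne ?_
    have h20' : c ^ (20 * 2) = 1 := by rw [pow_mul, h20, one_pow]
    calc c ^ 10 = c ^ (20 * 2) * c ^ 10 := by rw [h20', one_mul]
      _ = (c ^ 5) ^ 10 := by rw [← pow_add, ← pow_mul]
      _ = 1 := h
  refine ⟨c ^ 6, mem_of_pow_five X F (pow_mem hc _) ?_, c ^ 5, (hVmem _).2 ⟨pow_mem hc _, ?_⟩, ?_⟩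
  · rw [← pow_mul, show 6 * 5 = 10 * 3 by norm_num, pow_mul, h10, one_pow]
  · rw [← pow_mul]; exact h10
  · rw [← pow_add, show 6 + 5 = 10 + 1 by norm_num, pow_add, h10, one_mul, pow_one]

/-- A 2-subgroup of the normalizer is in one of order 16 that contains the four-group and fixes an involution of it. -/
theorem exists_fixed (U : Subgroup G) (hU : IsPGroup 2 U)
    (hUN : U ≤ Subgroup.normalizer ((F.Q : Subgroup G) : Set G)) :
    ∃ T : Subgroup G, Nat.card T = 16 ∧ T ≤ Subgroup.normalizer ((F.Q : Subgroup G) : Set G) ∧ U ≤ T ∧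
      ∃ z ∈ V, z ≠ 1 ∧ ∀ t ∈ T, Commute t z := by
  haveI : Fact (Nat.Prime 2) := ⟨Nat.prime_two⟩
  set N := Subgroup.normalizer ((F.Q : Subgroup G) : Set G)
  obtain ⟨T, hT⟩ := (hU.of_equiv (Subgroup.subgroupOfEquivOfLe hUN).symm).exists_le_sylow
  have hVN : V ≤ N := fun g hg => Subgroup.centralizer_le_normalizer _ ((hVmem g).1 hg).1
  haveI : (V.subgroupOf N).Normal := ⟨fun e he n => by
    simp only [Subgroup.mem_subgroupOf, Subgroup.coe_mul, Subgroup.coe_inv] at he ⊢
    exact four_conj X F hV hVmem hVc n.2 he⟩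
  have hle : V.subgroupOf N ≤ T := ((IsPGroup.of_card (G := V) (p := 2) (n := 2) (by rw [hV]; norm_num)).of_equiv
    (Subgroup.subgroupOfEquivOfLe hVN).symm).le_sylow_of_normal T
  have hcard : Nat.card (T : Subgroup N) = 16 := by
    rw [T.card_eq_multiplicity, card_norm_five X F,
      show (240 : ℕ) = 2 ^ 4 * 15 by norm_num, factorization_eq (by norm_num) (by norm_num) (by norm_num)]
    norm_num
  refine ⟨(T : Subgroup N).map N.subtype, (Subgroup.card_map_of_injective N.subtype_injective).trans hcard,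
    Subgroup.map_subtype_le _, fun u hu => ⟨⟨u, hUN hu⟩, hT (Subgroup.mem_subgroupOf.2 hu), rfl⟩, ?_⟩
  have hne : (V.subgroupOf N).subgroupOf (T : Subgroup N) ≠ ⊥ := fun h => by
    have := Subgroup.card_eq_one.2 h
    rw [Nat.card_congr (Subgroup.subgroupOfEquivOfLe hle).toEquiv,
      Nat.card_congr (Subgroup.subgroupOfEquivOfLe hVN).toEquiv, hV] at this
    norm_num at this
  obtain ⟨⟨a, hz1, hz2⟩, ha⟩ := Subgroup.ne_bot_iff_exists_ne_one.1
    (Cfsg.Lib.PGroup.inf_center_ne_bot T.isPGroup' hne)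
  refine ⟨((a : N) : G), hz1, fun e => ha (Subtype.ext (Subtype.ext (Subtype.ext e))), ?_⟩
  rintro _ ⟨t, ht, rfl⟩
  exact congrArg (fun w : (T : Subgroup N) => ((w : N) : G)) (Subgroup.mem_center_iff.1 hz2 ⟨t, ht⟩)

/-- An involution of the four-group has centralizer order 7680 and 15 inverting conjugates. -/
theorem exists_special : ∃ w : G, orderOf w = 2 ∧
    Nat.card (Subgroup.centralizer ({w} : Set G)) = 7680 ∧
      ((Char.classFinset w).filter fun a =>
        ∀ x ∈ (F.Q : Subgroup G), a * x * a⁻¹ = x⁻¹).card = 15 := by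
  set N := Subgroup.normalizer ((F.Q : Subgroup G) : Set G)
  obtain ⟨T, hT, hTN, -, z, hzV, hz1, hTz⟩ := exists_fixed X F hV hVmem hVc ⊥ IsPGroup.of_bot bot_le
  obtain ⟨hzC, hzsq⟩ := (hVmem z).1 hzV
  have hz : orderOf z = 2 := haveI : Fact (Nat.Prime 2) := ⟨Nat.prime_two⟩; orderOf_eq_prime hzsq hz1
  set H := Subgroup.centralizer ({z} : Set G)
  obtain ⟨b, hbo, hbQ, hbz, -, -⟩ := exists_gen X F.Q F.S5.card_P
  have hzb : Commute b z := Subgroup.mem_centralizer_iff.1 hzC b hbQ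
  have hcard : Nat.card ↥(Subgroup.normalizer ((Subgroup.zpowers b : Subgroup G) : Set G) ⊓ H) = 80 := by
    rw [hbz]
    set a := Nat.card ↥(N ⊓ H) with ha
    have hd : a ∣ 240 := (Subgroup.card_dvd_of_le inf_le_left).trans (dvd_of_eq (card_norm_five X F))
    have h16 : 16 ∣ a := hT ▸ Subgroup.card_dvd_of_le (show T ≤ N ⊓ H from fun t ht =>
      ⟨hTN ht, Subgroup.mem_centralizer_singleton_iff.2 (hTz t ht).eq⟩)
    have h5 : 5 ∣ a := by
      rw [← F.S5.card_P]
      exact Subgroup.card_dvd_of_le fun x hx => ⟨Subgroup.le_normalizer hx,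
        Subgroup.mem_centralizer_singleton_iff.2 (Subgroup.mem_centralizer_iff.1 hzC x hx)⟩
    have hne : a ≠ 240 := fun h => by
      obtain ⟨c, hc, hcz⟩ := not_central X F hz hzC
      have hNH : N ⊓ H = N := Subgroup.eq_of_le_of_card_ge inf_le_left (by rw [← ha, h, card_norm_five X F])
      have : c ∈ N ⊓ H := hNH.symm ▸ Subgroup.centralizer_le_normalizer _ hc
      exact hcz (Subgroup.mem_centralizer_singleton_iff.1 this.2)
    obtain ⟨k, hk⟩ := Nat.Coprime.mul_dvd_of_dvd_of_dvd (by norm_num : Nat.Coprime 16 5) h16 h5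
    have hk3 : k ∣ 3 := Nat.dvd_of_mul_dvd_mul_left (k := 16 * 5) (by norm_num) (hk ▸ hd.trans (dvd_of_eq (by norm_num)))
    rcases (Nat.dvd_prime Nat.prime_three).1 hk3 with e | e <;> omega
  obtain ⟨hn, hmod⟩ := index_modEq_one (p := 5) (X.hcard ▸ by norm_num) hbo H
    (Subgroup.mem_centralizer_singleton_iff.2 hzb.eq) hcard
  obtain ⟨hmem, hCs⟩ := five_facts X F hz hzC rfl
  have hchk := List.all_eq_true.1 five_check _ hCs
  simp only [Bool.and_eq_true] at hchk
  rw [cof_five_eq X F] at hmem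
  have h := List.all_eq_true.1 hchk.2 _ hmem
  simp only [Bool.and_eq_true, Bool.or_eq_true, Bool.not_eq_true', beq_iff_eq, Bool.and_eq_false_iff,
    beq_eq_false_iff_ne] at h
  obtain ⟨hC, hsq⟩ := h.1.2.resolve_left fun h' =>
    h'.elim (fun h'' => h'' (Nat.mod_eq_zero_of_dvd hn)) (fun h'' => h'' hmod)
  obtain ⟨m, hm, hcnt⟩ := square_five F X hz rfl
  rw [cof_five_eq X F, hsq] at hm
  have hm3 : m = 3 := by
    have hd : sqDen (Nat.card H) ≠ 0 := by rw [hC]; decide
    have := mul_right_cancel₀ hd hm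
    have h' : m * m = 9 := by exact_mod_cast this.symm
    exact Nat.mul_self_inj.1 (h'.trans (by norm_num))
  exact ⟨z, hz, hC, by rw [hcnt, hm3]⟩

theorem sq_fix {t z v : G} (ht : t ∈ Subgroup.normalizer ((F.Q : Subgroup G) : Set G)) (hz : z ∈ V)
    (hz1 : z ≠ 1) (htz : Commute t z) (hv : v ∈ V) : t * (t * v * t⁻¹) * t⁻¹ = v := by
  rcases eq_or_ne v 1 with rfl | hv1
  · group
  rcases eq_or_ne v z with rfl | hvz
  · rw [htz.mul_inv_cancel, htz.mul_inv_cancel]
  have hu1 : t * v * t⁻¹ ≠ 1 := fun h => hv1 (conj_eq_one_iff.1 h)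
  have huz : t * v * t⁻¹ ≠ z := fun h => hvz (by
    calc v = t⁻¹ * (t * v * t⁻¹) * t := by group
      _ = t⁻¹ * (t * z * t⁻¹) * t := by rw [h, htz.mul_inv_cancel]
      _ = z := by group)
  rcases four_cases hV (fun g hg => (pow_two g).symm.trans ((hVmem g).1 hg).2) hz hv (four_conj X F hV hVmem hVc ht hv) hz1 hv1 hvz hu1 huz with h | h
  · rw [h, h]
  · rw [h, show t * (z * v) * t⁻¹ = (t * z * t⁻¹) * (t * v * t⁻¹) by group, htz.mul_inv_cancel, h,
      ← mul_assoc, ← pow_two, ((hVmem z).1 hz).2, one_mul]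

/-- An inverting involution centralizes the four-group. -/
theorem inverter_fix {s : G} (hs : s ^ 2 = 1) (hinv : ∀ x ∈ (F.Q : Subgroup G), s * x * s⁻¹ = x⁻¹)
    {v : G} (hv : v ∈ V) : s * v * s⁻¹ = v := by
  set N := Subgroup.normalizer ((F.Q : Subgroup G) : Set G)
  obtain ⟨b, hbo, hbQ, hbz, -, hbC⟩ := exists_gen X F.Q F.S5.card_P
  have hb5 : b ^ 5 = 1 := hbo ▸ pow_orderOf_eq_one b
  obtain ⟨n, hn, hnb⟩ : ∃ n ∈ N, n * b * n⁻¹ = b ^ 2 := by
    by_contra hcon
    push Not at hcon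
    set S := Finset.univ.filter fun g : G => g ∈ N
    set img := (Finset.univ.filter fun y : G => y ∈ (F.Q : Subgroup G)).erase 1
    have hS : S.card = 240 := by
      rw [← Fintype.card_subtype, ← Nat.card_eq_fintype_card]; exact card_norm_five X F
    have himg : img.card = 4 := by
      rw [Finset.card_erase_of_mem (by simp [one_mem]), ← Fintype.card_subtype, ← Nat.card_eq_fintype_card]
      exact congrArg (· - 1) F.S5.card_P
    have hb2 : b ^ 2 ∈ img := by
      refine Finset.mem_erase.2 ⟨fun h => ?_, by simp [pow_mem hbQ]⟩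
      have := orderOf_dvd_of_pow_eq_one h
      rw [hbo] at this
      norm_num at this
    have hmaps : ∀ g ∈ S, g * b * g⁻¹ ∈ img.erase (b ^ 2) := fun g hg => by
      have hgN : g ∈ N := (Finset.mem_filter.1 hg).2
      refine Finset.mem_erase.2 ⟨hcon g hgN, Finset.mem_erase.2 ⟨fun h => ?_, ?_⟩⟩
      · rw [conj_eq_one_iff] at h; rw [h, orderOf_one] at hbo; norm_num at hbo
      · simpa using (Subgroup.mem_normalizer_iff.1 hgN b).1 hbQ
    have hfib : ∀ y ∈ img.erase (b ^ 2), (S.filter fun g => g * b * g⁻¹ = y).card ≤ 60 := by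
      intro y _
      rcases (S.filter fun g => g * b * g⁻¹ = y).eq_empty_or_nonempty with he | ⟨g₀, hg₀⟩
      · simp [he]
      · have h60 : (Finset.univ.filter fun g : G => g ∈ C[(F.Q : Subgroup G)]).card = 60 := by
          rw [← Fintype.card_subtype, ← Nat.card_eq_fintype_card]; exact card_cent_five X F
        rw [← h60]
        refine Finset.card_le_card_of_injOn (fun g => g₀⁻¹ * g) (fun g hg => ?_)
          fun x _ y _ h => mul_left_cancel h
        simp only [Finset.mem_coe, Finset.mem_filter, Finset.mem_univ, true_and] at hg hg₀ ⊢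
        rw [← hbC, Subgroup.mem_centralizer_singleton_iff]
        calc g₀⁻¹ * g * b = g₀⁻¹ * (g * b * g⁻¹) * g := by group
          _ = g₀⁻¹ * (g₀ * b * g₀⁻¹) * g := by rw [hg.2, hg₀.2]
          _ = b * (g₀⁻¹ * g) := by group
    have := Finset.card_le_mul_card_image_of_maps_to hmaps 60 hfib
    rw [hS, Finset.card_erase_of_mem hb2, himg] at this
    omega
  have hpow : ∀ i, n ^ i * b * (n ^ i)⁻¹ = b ^ 2 ^ i := by
    intro i
    induction i with
    | zero => simp
    | succ i ih =>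
      rw [pow_succ', show n * n ^ i * b * (n * n ^ i)⁻¹ = n * (n ^ i * b * (n ^ i)⁻¹) * n⁻¹ by group,
        ih, ← conj_pow, hnb, ← pow_mul, ← pow_succ']
  set t := n ^ 15 with htdef
  have htN : t ∈ N := pow_mem hn _
  have ht : orderOf t ∣ 2 ^ 4 := orderOf_dvd_of_pow_eq_one (by
    rw [htdef, ← pow_mul, show 15 * 2 ^ 4 = 240 by norm_num, ← card_norm_five X F]
    exact orderOf_dvd_iff_pow_eq_one.1 (Subgroup.orderOf_dvd_natCard _ hn))
  obtain ⟨i, -, hi⟩ := (Nat.dvd_prime_pow Nat.prime_two).1 ht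
  obtain ⟨T, -, -, hUT, z, hzV, hz1, hTz⟩ := exists_fixed X F hV hVmem hVc (Subgroup.zpowers t)
    (IsPGroup.of_card (n := i) (by rw [Nat.card_zpowers, hi])) (Subgroup.zpowers_le.2 htN)
  have htz : Commute t z := hTz t (hUT (Subgroup.mem_zpowers t))
  have ht2 : t * t * b * (t * t)⁻¹ = b⁻¹ := by
    rw [htdef, ← pow_add, hpow, pow_eq_pow_mod _ hb5, show 2 ^ (15 + 15) % 5 = 4 by norm_num]
    exact eq_inv_of_mul_eq_one_left (by rw [← pow_succ, hb5])
  set c := (t * t)⁻¹ * s with hc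
  have hcC : c ∈ C[(F.Q : Subgroup G)] := by
    rw [← hbC, Subgroup.mem_centralizer_singleton_iff]
    have hb' : (t * t)⁻¹ * b⁻¹ * (t * t) = b := by rw [← ht2]; group
    calc c * b = (t * t)⁻¹ * (s * b * s⁻¹) * (t * t) * c := by rw [hc]; group
      _ = b * c := by rw [hinv b hbQ, hb']
  have hact : ∀ u ∈ V, s * u * s⁻¹ = c * u * c⁻¹ := fun u hu => by
    have hu' := four_conj X F hV hVmem hVc (Subgroup.centralizer_le_normalizer _ hcC) hu
    rw [← sq_fix X F hV hVmem hVc htN hzV hz1 htz hu', hc]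
    group
  have hcv : Commute (c ^ 2) v := by
    have hu' := four_conj X F hV hVmem hVc (Subgroup.centralizer_le_normalizer _ hcC) hv
    have h := hact _ hu'
    rw [← hact v hv, show s * (s * v * s⁻¹) * s⁻¹ = s ^ 2 * v * (s ^ 2)⁻¹ by rw [pow_two]; group, hs,
      hact v hv] at h
    show c ^ 2 * v = v * c ^ 2
    calc c ^ 2 * v = c * (c * v * c⁻¹) * c⁻¹ * c ^ 2 := by rw [pow_two]; group
      _ = v * c ^ 2 := by rw [← h]; group
  rcases eq_or_ne v 1 with rfl | hv1
  · group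
  have h20 : c ^ 20 = 1 := by
    rw [show 20 = 2 * 10 by norm_num, pow_mul]
    exact hVc _ (pow_mem hcC 2) v hv hv1 hcv
  obtain ⟨x, hx, u, hu, hcxu⟩ := mem_prod X F hV hVmem hVc hcC h20
  rw [hact v hv]
  refine Commute.mul_inv_cancel ?_
  rw [hcxu]
  exact Commute.mul_left (Subgroup.mem_centralizer_iff.1 ((hVmem v).1 hv).1 x hx)
    (four_commute X F hV hVmem hVc hu hv)

/-- At most 20 involutions invert the Sylow 5-subgroup. -/
theorem inverters_le :
    (Finset.univ.filter fun a : G =>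
      a ^ 2 = 1 ∧ ∀ x ∈ (F.Q : Subgroup G), a * x * a⁻¹ = x⁻¹).card ≤ 20 := by
  set S := Finset.univ.filter fun a : G => a ^ 2 = 1 ∧ ∀ x ∈ (F.Q : Subgroup G), a * x * a⁻¹ = x⁻¹
  rcases S.eq_empty_or_nonempty with he | ⟨s, hsS⟩
  · simp [he]
  obtain ⟨hs, hsinv⟩ := (Finset.mem_filter.1 hsS).2
  have hss : s⁻¹ = s := inv_eq_of_mul_eq_one_right (by rw [← pow_two, hs])
  obtain ⟨v, hv, hv1⟩ : ∃ v ∈ V, v ≠ 1 := by
    by_contra h
    push Not at h
    rw [(Subgroup.eq_bot_iff_forall V).2 h, Subgroup.card_bot] at hV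
    norm_num at hV
  set img := ((Finset.univ.filter fun x : G => x ∈ (F.Q : Subgroup G)) ×ˢ
    (Finset.univ.filter fun u : G => u ∈ V)).image fun p : G × G => s * (p.1 * p.2)
  have himg : img.card ≤ 20 := by
    refine Finset.card_image_le.trans (le_of_eq ?_)
    rw [Finset.card_product, ← Fintype.card_subtype, ← Fintype.card_subtype, ← Nat.card_eq_fintype_card,
      ← Nat.card_eq_fintype_card]
    show Nat.card (F.Q : Subgroup G) * Nat.card V = 20
    rw [F.S5.card_P, hV]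
  refine (Finset.card_le_card fun t ht => ?_).trans himg
  obtain ⟨htsq, htinv⟩ := (Finset.mem_filter.1 ht).2
  have htt : t⁻¹ = t := inv_eq_of_mul_eq_one_right (by rw [← pow_two, htsq])
  set g := s * t with hg
  have hgC : g ∈ C[(F.Q : Subgroup G)] := Subgroup.mem_centralizer_iff.2 fun x hx => by
    calc x * g = (s * x⁻¹ * s⁻¹) * g := by rw [hsinv _ (inv_mem hx), inv_inv]
      _ = (s * (t * x * t⁻¹) * s⁻¹) * g := by rw [htinv x hx]
      _ = g * x := by rw [hg]; group
  have hsg : s * g * s⁻¹ = g⁻¹ := by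
    rw [hg, mul_inv_rev, hss, htt, ← mul_assoc, ← pow_two, hs, one_mul]
  have hy : s * g ^ 5 * s⁻¹ = (g ^ 5)⁻¹ := by rw [← conj_pow, hsg, inv_pow]
  set y := g ^ 5
  have hyC : y ∈ C[(F.Q : Subgroup G)] := pow_mem hgC 5
  have hfix := inverter_fix X F hV hVmem hVc hs hsinv
    (four_conj X F hV hVmem hVc (Subgroup.centralizer_le_normalizer _ hyC) hv)
  rw [show s * (y * v * y⁻¹) * s⁻¹ = (s * y * s⁻¹) * (s * v * s⁻¹) * (s * y * s⁻¹)⁻¹ by group, hy,
    inverter_fix X F hV hVmem hVc hs hsinv hv, inv_inv] at hfix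
  have hc : Commute (y ^ 2) v := by
    show y ^ 2 * v = v * y ^ 2
    calc y ^ 2 * v = y * (y * v * y⁻¹) * y := by rw [pow_two]; group
      _ = y * (y⁻¹ * v * y) * y := by rw [hfix]
      _ = v * y ^ 2 := by rw [pow_two]; group
  have h100 : g ^ 100 = 1 := by
    have := hVc _ (pow_mem hyC 2) v hv hv1 hc
    simp only [y, ← pow_mul] at this
    exact this
  have h20 : g ^ 20 = 1 := by
    have h60 := pow_sixty X F hgC
    calc g ^ 20 = g ^ 100 * g ^ 20 := by rw [h100, one_mul]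
      _ = (g ^ 60) ^ 2 := by rw [← pow_add, ← pow_mul]
      _ = 1 := by rw [h60, one_pow]
  obtain ⟨x, hx, u, hu, he⟩ := mem_prod X F hV hVmem hVc hgC h20
  refine Finset.mem_image.2 ⟨(x, u), by simp [hx, hu], ?_⟩
  rw [← he, hg, ← mul_assoc, ← pow_two, hs, one_mul]

end Cfsg.Lib.MTwentyFour.Local
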