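import Cfsg.Agent.Lib.MTwentyFour.Local.Fams

/-!
The row of the values of the two principal families at an involution lies in the computed lists.
-/

set_option autoImplicit false
set_option linter.style.haveILetI false
set_option linter.unusedSectionVars false

namespace Cfsg.Lib.MTwentyFour.Local

open Cfsg Cfsg.Lib Cfsg.Lib.Block Cfsg.Lib.MTwentyFour.Eleven
open Cfsg.Lib.MTwentyFour.Search (ord24)
open scoped ComplexConjugate Classical

universe u

noncomputable local instance (priority := high) fintypeSubgroupValues {A : Type u}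
    [Group A] [Fintype A] (H : Subgroup A) : Fintype H := Fintype.ofFinite H

local notation "C[" P "]" => Subgroup.centralizer (SetLike.coe P)

variable {G : Type u} [Group G] [Fintype G] [Fact (Nat.Prime 5)] [Fact (Nat.Prime 7)] (F : Fams G)

/-- The values of the named characters at `v`. -/
noncomputable def rowAt (F : Fams G) (v : G) : Row :=
  ⟨MTwentyTwo.intVal v F.χa, MTwentyTwo.intVal v F.χb, MTwentyTwo.intVal v F.χc,
    MTwentyTwo.intVal v F.χA, MTwentyTwo.intVal v F.χB, MTwentyTwo.intVal v F.χE⟩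

theorem sum_Z5 {M : Type*} [AddCommMonoid M] (f : IrrCharacter G → M) :
    ∑ χ ∈ F.S5.Z, f χ = f (Small.one' G) + (f F.χA + (f F.χa + (f F.χB + f F.χE))) := by
  have hne : ∀ {χ ψ : IrrCharacter G}, dg χ ≠ dg ψ → χ ≠ ψ := fun h e => h (e ▸ rfl)
  have h1 : dg (Small.one' G) = 1 := Small.charDegree_one'
  rw [F.Z5, Finset.sum_insert, Finset.sum_insert, Finset.sum_insert, Finset.sum_insert, Finset.sum_singleton] <;>
    simp only [Finset.mem_insert, Finset.mem_singleton, not_or] <;> (try constructorm* _ ∧ _) <;>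
    (apply hne; simp [h1, F.dA, F.da, F.dB, F.dE])

theorem sum_Z7 {M : Type*} [AddCommMonoid M] (f : IrrCharacter G → M) :
    ∑ χ ∈ F.S7.Z, f χ = f (Small.one' G) + (f F.χa + (f F.χb + f F.χc)) := by
  have hne : ∀ {χ ψ : IrrCharacter G}, dg χ ≠ dg ψ → χ ≠ ψ := fun h e => h (e ▸ rfl)
  have h1 : dg (Small.one' G) = 1 := Small.charDegree_one'
  rw [F.Z7, Finset.sum_insert, Finset.sum_insert, Finset.sum_insert, Finset.sum_singleton] <;>
    simp only [Finset.mem_insert, Finset.mem_singleton, not_or] <;> (try constructorm* _ ∧ _) <;>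
    (apply hne; simp [h1, F.da, F.db, F.dc])

theorem theta_eq : F.S7.θ = F.χc := by
  have h := F.S7.congθ
  have hm : F.S7.θ ∈ ({Small.one' G, F.χa, F.χb, F.χc} : Finset (IrrCharacter G)) :=
    F.Z7 ▸ F.S7.mem_Z.2 (Or.inl rfl)
  simp only [Finset.mem_insert, Finset.mem_singleton] at hm
  rcases hm with e | e | e | e
  · rw [e, F.S7.sign_one, Small.charDegree_one'] at h
    exact absurd h (by decide)
  · rw [e, F.sa', show charDegree (F.χa : G → ℂ) = 2024 from F.da] at h
    exact absurd h (by decide)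
  · rw [e, F.sb, show charDegree (F.χb : G → ℂ) = 1035 from F.db] at h
    exact absurd h (by decide)
  · exact e

theorem mem5 : F.χA ∈ F.S5.Z ∧ F.χa ∈ F.S5.Z ∧ F.χB ∈ F.S5.Z ∧ F.χE ∈ F.S5.Z := by simp [F.Z5]

theorem mem7 : F.χa ∈ F.S7.Z ∧ F.χb ∈ F.S7.Z ∧ F.χc ∈ F.S7.Z := by simp [F.Z7]

variable [IsSimpleGroup G] (X : Ctx G) {v : G} (hv : orderOf v = 2)
include X hv

theorem rel_five :
    (rowAt F v).E = (rowAt F v).a + (rowAt F v).B - 1 - (rowAt F v).A := by
  have h := su_rel F.S5 X hv (MTwentyTwo.not_dvd_orderOf (G := G) Fact.out (by norm_num) hv)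
  simp only [sum_Z5 F, su_one] at h
  simp only [su, F.sA, F.sa, F.sB, F.sE] at h
  simp only [rowAt]
  linarith

theorem rel_seven : (rowAt F v).c = 1 + (rowAt F v).a - (rowAt F v).b := by
  have h := su_rel F.S7 X hv (MTwentyTwo.not_dvd_orderOf (G := G) Fact.out (by norm_num) hv)
  simp only [sum_Z7 F, su_one] at h
  simp only [su, F.sa', F.sb, F.sc] at h
  simp only [rowAt]
  linarith

theorem conic : 91080 + 45 * ((rowAt F v).a * (rowAt F v).a) =
    88 * ((rowAt F v).b * (rowAt F v).b) + 92 * ((rowAt F v).c * (rowAt F v).c) := by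
  obtain ⟨m, he, h⟩ := class_square F.S7.card_P F.S7 F.hC7 (by norm_num) hv
  have hm : m = 0 := he.resolve_left (by norm_num)
  subst hm
  have hG : (Nat.card G : ℂ) ≠ 0 := Nat.cast_ne_zero.2 Nat.card_pos.ne'
  have hc : (F.c7 : ℂ) ≠ 0 := Nat.cast_ne_zero.2 fun e => by
    have := F.hC7; rw [e, mul_zero] at this; exact Nat.card_pos.ne' this
  have ht : tSum F.S7 v = 0 := by
    simp only [mul_zero, Nat.cast_zero, zero_mul] at h
    exact (mul_eq_zero.1 h.symm).resolve_left (mul_ne_zero hc hG)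
  simp only [tSum, sum_Z7 F, F.S7.sign_one, F.sa', F.sb, F.sc, cast_val X hv, MEleven.apply_one,
    show MEleven.deg F.χa = 2024 from F.da, show MEleven.deg F.χb = 1035 from F.db,
    show MEleven.deg F.χc = 990 from F.dc, show MEleven.deg (Small.one' G) = 1 from Small.charDegree_one',
    MTwentyTwo.intVal_eq (z := v) (χ := Small.one' G) (m := 1) (by rw [Small.one'_apply]; norm_num)] at ht
  push_cast at ht
  have h' : (91080 : ℂ) + 45 * (((rowAt F v).a : ℂ) * (rowAt F v).a) =
      88 * (((rowAt F v).b : ℂ) * (rowAt F v).b) + 92 * (((rowAt F v).c : ℂ) * (rowAt F v).c) := by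
    simp only [rowAt]
    linear_combination (91080 : ℂ) * ht
  exact_mod_cast h'

theorem square_five {C : ℕ} (hC : Nat.card (Subgroup.centralizer ({v} : Set G)) = C) :
    ∃ m : ℕ, sqNum F.c5 (rowAt F v) = (m : ℤ) * (m : ℤ) * sqDen C ∧
      ((Char.classFinset v).filter fun a =>
        ∀ x ∈ (F.Q : Subgroup G), a * x * a⁻¹ = x⁻¹).card = 5 * m := by
  obtain ⟨m, -, h, hcard⟩ := class_square_card F.S5.card_P F.S5 F.hC5 (by norm_num) hv
  refine ⟨m, ?_, hcard⟩
  rw [hC, card24 X] at h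
  simp only [tSum, sum_Z5 F, F.S5.sign_one, F.sA, F.sa, F.sB, F.sE, cast_val X hv, MEleven.apply_one,
    show MEleven.deg F.χa = 2024 from F.da, show MEleven.deg F.χA = 5796 from F.dA,
    show MEleven.deg F.χB = 5544 from F.dB, show MEleven.deg F.χE = 1771 from F.dE,
    show MEleven.deg (Small.one' G) = 1 from Small.charDegree_one',
    MTwentyTwo.intVal_eq (z := v) (χ := Small.one' G) (m := 1) (by rw [Small.one'_apply]; norm_num)] at h
  push_cast at h
  have h' : ((sqNum F.c5 (rowAt F v) : ℤ) : ℂ) = (((m : ℤ) * (m : ℤ) * sqDen C : ℤ) : ℂ) := by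
    simp only [sqNum, sqDen, rowAt]
    push_cast
    linear_combination (-127512 : ℂ) * h
  exact_mod_cast h'

theorem sum_known (f : ℕ → ℤ → ℤ) :
    f 1 1 * f 1 1 + f 2024 (rowAt F v).a * f 2024 (rowAt F v).a + f 1035 (rowAt F v).b * f 1035 (rowAt F v).b +
        2 * (f 990 (rowAt F v).c * f 990 (rowAt F v).c) + f 5796 (rowAt F v).A * f 5796 (rowAt F v).A +
        f 5544 (rowAt F v).B * f 5544 (rowAt F v).B + f 1771 (rowAt F v).E * f 1771 (rowAt F v).E ≤
      ∑ χ : IrrCharacter G,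
        f (dg χ) (MTwentyTwo.intVal v χ) * f (dg χ) (MTwentyTwo.intVal v χ) := by
  obtain ⟨θ', hθ', hne⟩ := Finset.exists_mem_ne (s := F.S7.Y) (by rw [F.S7.card_Y]; norm_num) F.S7.θ
  have hag : MTwentyTwo.intVal v θ' = MTwentyTwo.intVal v F.χc := by
    refine MTwentyTwo.intVal_eq ?_
    rw [F.S7.agree θ' hθ' v (MTwentyTwo.not_dvd_orderOf (G := G) Fact.out (by norm_num) hv), theta_eq F]
    exact cast_val X hv _
  have hd' : dg θ' = 990 := by
    have h := F.S7.agree θ' hθ' 1 (by rw [orderOf_one]; norm_num)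
    rw [theta_eq F, apply_one_eq_charDegree, apply_one_eq_charDegree, show charDegree (F.χc : G → ℂ) = 990 from F.dc] at h
    exact_mod_cast h
  rw [theta_eq F] at hne
  have hd : ∀ {χ ψ : IrrCharacter G}, dg χ ≠ dg ψ → χ ≠ ψ := fun h e => h (e ▸ rfl)
  have h1 : dg (Small.one' G) = 1 := Small.charDegree_one'
  refine le_trans (le_of_eq ?_) (Finset.sum_le_sum_of_subset_of_nonneg
    (s := ({Small.one' G, F.χa, F.χb, F.χc, θ', F.χA, F.χB, F.χE} : Finset (IrrCharacter G)))
    (Finset.subset_univ _) fun _ _ _ => mul_self_nonneg _)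
  rw [Finset.sum_insert, Finset.sum_insert, Finset.sum_insert, Finset.sum_insert, Finset.sum_insert,
    Finset.sum_insert, Finset.sum_insert, Finset.sum_singleton, hag, hd', h1, F.da, F.db, F.dc, F.dA, F.dB, F.dE,
    MTwentyTwo.intVal_eq (z := v) (χ := Small.one' G) (m := 1) (by rw [Small.one'_apply]; norm_num)]
  · simp only [rowAt]; ring
  all_goals simp only [Finset.mem_insert, Finset.mem_singleton, not_or]
  all_goals (try constructorm* _ ∧ _)
  all_goals first
    | exact hne.symm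
    | (apply hd; simp [h1, hd', F.da, F.db, F.dc, F.dA, F.dB, F.dE])

theorem low_le {C : ℕ} (hC : Nat.card (Subgroup.centralizer ({v} : Set G)) = C) :
    (rowAt F v).low ≤ (C : ℤ) := by
  have h := sum_known F X hv (fun _ w => w)
  rw [MTwentyTwo.sum_intVal_sq (hv ▸ pow_orderOf_eq_one v), hC] at h
  simp only [Row.low]
  linarith

/-- The row is in the computed list. -/
theorem mem_sols {m C : ℕ} (hC : Nat.card (Subgroup.centralizer ({v} : Set G)) = C)
    (hm : ∀ χ ∈ [F.χa, F.χb, F.χc, F.χA, F.χB, F.χE],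
      (m : ℤ) ∣ MTwentyTwo.intVal v χ - (dg χ : ℤ)) :
    rowAt F v ∈ sols F.c5 m C := by
  have hval : ∀ χ ∈ [F.χa, F.χb, F.χc, F.χA, F.χB, F.χE], ∀ d, dg χ = d →
      MTwentyTwo.intVal v χ ∈ vals m C d := fun χ hχ d hd => mem_vals X hv hd hC (hd ▸ hm χ hχ)
  obtain ⟨k, hk, -⟩ := square_five F X hv hC
  have hC0 : sqDen C ≠ 0 := by
    have : (C : ℤ) ≠ 0 := Int.natCast_ne_zero.2 (hC ▸ Nat.card_pos.ne')
    simpa [sqDen] using this
  have hrow : rowAt F v ∈ rows m C := by
    have hc := rel_seven F X hv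
    have hE := rel_five F X hv
    simp only [rows, List.mem_flatMap, List.mem_filter, List.mem_map, Bool.and_eq_true, beq_iff_eq,
      List.contains_iff_mem, decide_eq_true_eq]
    refine ⟨(rowAt F v).a, hval F.χa (by simp) _ F.da, (rowAt F v).b, ⟨hval F.χb (by simp) _ F.db,
      ?_, ?_⟩, (rowAt F v).A, hval F.χA (by simp) _ F.dA,
      ⟨(rowAt F v).B, ⟨hval F.χB (by simp) _ F.dB, ?_⟩, ?_⟩, low_le F X hv hC⟩
    · rw [← hc]; exact conic F X hv
    · rw [← hc]; exact hval F.χc (by simp) _ F.dc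
    · rw [← hE]; exact hval F.χE (by simp) _ F.dE
    · rw [← hc, ← hE]
  refine List.mem_filter.2 ⟨hrow, ?_⟩
  simp only [Bool.and_eq_true, beq_iff_eq, Bool.not_eq_true']
  refine ⟨by rw [hk]; exact Int.mul_emod_left _ _, ?_⟩
  rw [hk, Int.mul_ediv_cancel _ hC0]
  cases hs : notSq ((k : ℤ) * k) with
  | false => rfl
  | true => exact absurd rfl (notSq_ne hs k)

end Cfsg.Lib.MTwentyFour.Local
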